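import Cfsg.Agent.H653.HNE.Classes

/-!
# Exact centralisers of the elements of order 4 and 8 over `W0`, Harada-Norton group (helper653)

`card_4A` (15360), `card_4C` (3840), `card_8B` (64).
-/

set_option autoImplicit false
set_option maxRecDepth 100000

namespace Cfsg.Agent.H653.HNE

open Subgroup
open Cfsg.Agent.HN.XWords Cfsg.Agent.HN.XStruct Cfsg.Agent.KFacts.HN
open Cfsg.Agent.ThType.CSideModel (pw Basis ι lo hi par4 nmul img ι_nmul ι_zero ι_z ι_gen)
open Cfsg.Agent.ThType.CSideWords (ninv ι_ninv ι_congr)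

/-- the elements commuting with `ρ x` modulo `R` -/
noncomputable def HH (u : Lq) : Subgroup PP := (centralizer ({u} : Set Lq)).comap ρ

theorem mem_HH {u : Lq} {g : PP} : g ∈ HH u ↔ ρ g * u = u * ρ g := mem_centralizer_singleton_iff

theorem card_HH (u : Lq) : Nat.card (HH u) = 512 * Nat.card (centralizer ({u} : Set Lq)) := by
  have h1 := (centralizer ({u} : Set Lq)).card_mul_index
  have h2 := (HH u).card_mul_index
  have h3 : (HH u).index = (centralizer ({u} : Set Lq)).index :=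
    Subgroup.index_comap_of_surjective _ ρ_surj
  rw [card_Lq] at h1
  rw [h3, card_PP] at h2
  have h4 : 0 < (centralizer ({u} : Set Lq)).index := by
    rcases Nat.eq_zero_or_pos (centralizer ({u} : Set Lq)).index with h0 | h0
    · rw [h0] at h1
      omega
    · exact h0
  apply Nat.eq_of_mul_eq_mul_right h4
  rw [h2, mul_assoc, h1]
  norm_num

/-- **the order of a centraliser** from the fibre of the class -/
theorem card_cent_fibre {x y : Cfsg.Spor.HN} {k N : ℕ} (hk : x ^ k = W0) (hy : y ∈ PP)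
    (hρ : ρ ⟨x, mem_of_pow hk⟩ = ρ ⟨y, hy⟩) {good : ℕ → Bool}
    (hN : Fintype.card {n : Fin 512 // good n = true} = N)
    (h1 : ∀ n < 512, good n = true → ∃ c ∈ PP, c * x * c⁻¹ = ι W0 bx n * y)
    (h2 : ∀ n < 512, (ι W0 bx n * y) ^ k = W0 → good n = true) :
    N * Nat.card (centralizer ({x} : Set Cfsg.Spor.HN)) =
      512 * Nat.card (centralizer ({ρ ⟨y, hy⟩} : Set Lq)) := by
  set u := ρ ⟨y, hy⟩ with hu
  have hxP := mem_of_pow hk
  have hxH : (⟨x, hxP⟩ : PP) ∈ HH u := by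
    rw [mem_HH, hρ]
  set x' : HH u := ⟨⟨x, hxP⟩, hxH⟩ with hx'
  have hle := cent_le hk
  have hcH : ∀ g (hg : g ∈ centralizer ({x} : Set Cfsg.Spor.HN)), (⟨g, hle hg⟩ : PP) ∈ HH u := by
    intro g hg
    have h3 := mem_centralizer_singleton_iff.1 hg
    have h4 : (⟨g, hle hg⟩ : PP) * ⟨x, hxP⟩ = ⟨x, hxP⟩ * ⟨g, hle hg⟩ := Subtype.ext h3
    have h5 := congrArg ρ h4
    rw [map_mul, map_mul, hρ] at h5
    exact mem_HH.2 h5
  have hcc : Nat.card (centralizer ({x'} : Set (HH u))) = Nat.card (centralizer ({x} : Set Cfsg.Spor.HN)) := by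
    refine Nat.card_congr
      { toFun := fun g => ⟨((g.1 : HH u) : PP), mem_centralizer_singleton_iff.2
          (congrArg (fun t : HH u => ((t : PP) : Cfsg.Spor.HN)) (mem_centralizer_singleton_iff.1 g.2))⟩
        invFun := fun g => ⟨⟨⟨g.1, hle g.2⟩, hcH g.1 g.2⟩, mem_centralizer_singleton_iff.2
          (Subtype.ext (Subtype.ext (mem_centralizer_singleton_iff.1 g.2)))⟩
        left_inv := fun _ => rfl
        right_inv := fun _ => rfl }
  have hcx := card_conj x'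
  rw [hcc, card_HH] at hcx
  have hmemH : ∀ n : ℕ, (⟨ι W0 bx n * y, PP.mul_mem (ι_mem_PP n) hy⟩ : PP) ∈ HH u := by
    intro n
    have h3 : (⟨ι W0 bx n * y, PP.mul_mem (ι_mem_PP n) hy⟩ : PP) = ⟨ι W0 bx n, ι_mem_PP n⟩ * ⟨y, hy⟩ := rfl
    rw [mem_HH, h3, map_mul, (mem_RS_iff (ι_mem_PP n)).1 (ι_mem n), one_mul]
  have hρn : ∀ n : ℕ, ρ ⟨ι W0 bx n * y, PP.mul_mem (ι_mem_PP n) hy⟩ = u := by
    intro n
    have h3 : (⟨ι W0 bx n * y, PP.mul_mem (ι_mem_PP n) hy⟩ : PP) = ⟨ι W0 bx n, ι_mem_PP n⟩ * ⟨y, hy⟩ := rfl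
    rw [h3, map_mul, (mem_RS_iff (ι_mem_PP n)).1 (ι_mem n), one_mul]
  have hc : Nat.card {z : HH u // IsConj x' z} = N := by
    rw [← hN, ← Nat.card_eq_fintype_card]
    symm
    have hcj : ∀ n : {n : Fin 512 // good n = true}, IsConj x' ⟨⟨ι W0 bx n.1 * y, PP.mul_mem (ι_mem_PP _) hy⟩,
        hmemH _⟩ := by
      intro n
      obtain ⟨c, hc, hc2⟩ := h1 n.1 n.1.2 n.2
      have h3 : (⟨c, hc⟩ : PP) ∈ HH u := by
        have h4 : (⟨c, hc⟩ : PP) * ⟨x, hxP⟩ * (⟨c, hc⟩ : PP)⁻¹ = ⟨ι W0 bx n.1 * y, PP.mul_mem (ι_mem_PP _) hy⟩ :=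
          Subtype.ext hc2
        have h5 := congrArg ρ h4
        rw [map_mul, map_mul, map_inv, hρ, hρn, mul_inv_eq_iff_eq_mul] at h5
        exact mem_HH.2 h5
      exact isConj_iff.2 ⟨⟨⟨c, hc⟩, h3⟩, Subtype.ext (Subtype.ext hc2)⟩
    refine Nat.card_congr (Equiv.ofBijective (fun n => ⟨_, hcj n⟩) ⟨?_, ?_⟩)
    · intro m n hmn
      have h3 : ι W0 bx m.1 * y = ι W0 bx n.1 * y :=
        congrArg (fun t => (((t.1 : HH u) : PP) : Cfsg.Spor.HN)) hmn
      exact Subtype.ext (Fin.ext (ι_inj m.1.2 n.1.2 (mul_right_cancel h3)))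
    · rintro ⟨⟨⟨z, hzP⟩, hzH⟩, hz⟩
      obtain ⟨g, hg⟩ := isConj_iff.1 hz
      have hg' : ((g : PP) : Cfsg.Spor.HN) * x * ((g : PP) : Cfsg.Spor.HN)⁻¹ = z :=
        congrArg (fun t : HH u => ((t : PP) : Cfsg.Spor.HN)) hg
      have hz2 : z * y⁻¹ ∈ RS := by
        refine (mem_RS_iff (PP.mul_mem hzP (PP.inv_mem hy))).2 ?_
        have h4 : (⟨z * y⁻¹, PP.mul_mem hzP (PP.inv_mem hy)⟩ : PP) =
            (g : PP) * ⟨x, hxP⟩ * (g : PP)⁻¹ * (⟨y, hy⟩ : PP)⁻¹ := by
          apply Subtype.ext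
          change z * y⁻¹ = ((g : PP) : Cfsg.Spor.HN) * x * ((g : PP) : Cfsg.Spor.HN)⁻¹ * y⁻¹
          rw [hg']
        have h5 : ρ (g : PP) * u = u * ρ (g : PP) := mem_HH.1 g.2
        rw [h4, map_mul, map_mul, map_mul, map_inv, map_inv, hρ, h5, mul_inv_cancel_right, mul_inv_cancel]
      obtain ⟨n, hn, h4⟩ := exists_code hz2
      have h5 : z = ι W0 bx n * y := by
        rw [← h4]; group
      subst h5
      have h6 : (ι W0 bx n * y) ^ k = W0 := by
        rw [← hg']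
        exact conj_pow_W0 (g : PP).2 hk
      exact ⟨⟨⟨n, hn⟩, h2 n hn h6⟩, rfl⟩
  rw [hc] at hcx
  exact hcx

theorem count32 : Fintype.card {n : Fin 512 // goodA n = true} = 32 := by decide +kernel
theorem count256 : Fintype.card {n : Fin 512 // goodB n = true} = 256 := by decide +kernel

theorem goodA_of {n : ℕ} (hn : n < 512) (h : (ι W0 bx n * wv yA) ^ 2 = W0) : goodA n = true := by
  rw [sq_coset actA wv_yA_sq n] at h
  have h2 := ι_eq_z (blt_of boundA hn) h
  unfold goodA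
  rw [Nat.beq_eq]
  exact h2

theorem goodB_of {n : ℕ} (h : (ι W0 bx n * wv yB) ^ 4 = W0) : goodB n = true := by
  rw [pow4, sq_coset actB wv_yB_sq n, ι_sq] at h
  have h2 := ι_eq_z (sq_lt _) h
  unfold goodB
  rw [Nat.beq_eq]
  exact h2

theorem wv_mem (w : List ℕ) : wv w ∈ PP := act_mem (act_wv w)

theorem ρ_wv {w : List ℕ} (h : okg w = true) : ρ ⟨wv w, wv_mem w⟩ = e w := by
  rw [← ρ_e]
  exact congrArg ρ (Subtype.ext (wv_Γ h))

/-- **the centraliser of the elements of class 4C** -/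
theorem card_4C : Nat.card (centralizer ({R4C} : Set Cfsg.Spor.HN)) = 3840 := by
  have h := card_cent_fibre (x := R4C) (y := wv yA) R4C_sq (wv_mem yA) rfl count32
    (fun n hn hg => orbit_A hn hg) (fun n hn hg => goodA_of hn hg)
  rw [ρ_wv (w := yA) (by decide), show (yA : List ℕ) = rp 1 from rfl, card_cent_A] at h
  omega

/-- **the centraliser of the elements of class 8B** -/
theorem card_8B : Nat.card (centralizer ({R8B} : Set Cfsg.Spor.HN)) = 64 := by
  have h := card_cent_fibre (x := R8B) (y := wv yB) R8B_four (wv_mem yB) (by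
    rw [ρ_R8B, ρ_wv (by decide)]; rfl) count256
    (fun n hn hg => orbit_B hn hg) (fun n _ hg => goodB_of hg)
  rw [ρ_wv (w := yB) (by decide), show (yB : List ℕ) = rp 3 from rfl, card_cent_B] at h
  omega

/-! ### Final statements -/

theorem card_cent_of_isConj {H : Type*} [Group H] {x y : H} (hxy : IsConj x y) :
    Nat.card (centralizer ({x} : Set H)) = Nat.card (centralizer ({y} : Set H)) := by
  obtain ⟨g, rfl⟩ := isConj_iff.1 hxy
  refine Nat.card_congr
    { toFun := fun t => ⟨g * t.1 * g⁻¹, ?_⟩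
      invFun := fun t => ⟨g⁻¹ * t.1 * g, ?_⟩
      left_inv := fun t => Subtype.ext (by group)
      right_inv := fun t => Subtype.ext (by group) }
  · have h1 := mem_centralizer_singleton_iff.1 t.2
    rw [mem_centralizer_singleton_iff]
    calc g * t.1 * g⁻¹ * (g * x * g⁻¹) = g * (t.1 * x) * g⁻¹ := by group
      _ = _ := by rw [h1]; group
  · have h1 := mem_centralizer_singleton_iff.1 t.2
    rw [mem_centralizer_singleton_iff]
    calc g⁻¹ * t.1 * g * x = g⁻¹ * (t.1 * (g * x * g⁻¹)) * g := by group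
      _ = _ := by rw [h1]; group

theorem not_isConj_4A_4C : ¬ IsConj R4A R4C := by
  intro h
  have h1 := card_cent_of_isConj h
  rw [card_4A, card_4C] at h1
  omega

theorem isConj_4A_iff {x : Cfsg.Spor.HN} (h : IsConj W0 (x ^ 2)) :
    IsConj R4A x ↔ Nat.card (centralizer ({x} : Set Cfsg.Spor.HN)) = 15360 := by
  constructor
  · intro h1
    rw [← card_cent_of_isConj h1, card_4A]
  · intro h1
    rcases conj_four h with h2 | h2
    · exact h2
    · rw [← card_cent_of_isConj h2, card_4C] at h1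
      omega

theorem isConj_4C_iff {x : Cfsg.Spor.HN} (h : IsConj W0 (x ^ 2)) :
    IsConj R4C x ↔ Nat.card (centralizer ({x} : Set Cfsg.Spor.HN)) = 3840 := by
  constructor
  · intro h1
    rw [← card_cent_of_isConj h1, card_4C]
  · intro h1
    rcases conj_four h with h2 | h2
    · rw [← card_cent_of_isConj h2, card_4A] at h1
      omega
    · exact h2

/-- the square of the class 8B is 4A -/
theorem R8B_sq : IsConj R4A (R8B ^ 2) := by
  have h : (R8B ^ 2) ^ 2 = W0 := by rw [← pow_mul]; exact R8B_four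
  have hq : R8B ^ 2 ∈ RS := by
    unfold R8B
    rw [sq_coset actB wv_yB_sq 128]
    exact ι_mem _
  obtain ⟨c, -, hc⟩ := two_I hq h
  exact isConj_iff.2 ⟨c, hc⟩

theorem conj_8B_sq {x : Cfsg.Spor.HN} (h : IsConj W0 (x ^ 4)) : IsConj R4A (x ^ 2) :=
  R8B_sq.trans ((conj_eight h).pow 2)

/-- **order 4 over `W0`**: two classes with centralisers of order 15360 and 3840 -/
theorem class_four : ∃ a c : Cfsg.Spor.HN, orderOf a = 4 ∧ orderOf c = 4 ∧ IsConj W0 (a ^ 2) ∧ IsConj W0 (c ^ 2) ∧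
    Nat.card (centralizer ({a} : Set Cfsg.Spor.HN)) = 15360 ∧
    Nat.card (centralizer ({c} : Set Cfsg.Spor.HN)) = 3840 ∧
    ∀ x : Cfsg.Spor.HN, IsConj W0 (x ^ 2) → IsConj a x ∨ IsConj c x :=
  ⟨R4A, R4C, orderOf_R4A, orderOf_R4C, conj_sq_4A (IsConj.refl _), conj_sq_4C (IsConj.refl _), card_4A, card_4C,
    fun _ h => conj_four h⟩

/-- **order 8 over `W0`**: one class with centraliser of order 64, no element of order 16 -/
theorem class_eight : ∃ a : Cfsg.Spor.HN, orderOf a = 8 ∧ IsConj W0 (a ^ 4) ∧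
    Nat.card (centralizer ({a} : Set Cfsg.Spor.HN)) = 64 ∧
    (∀ x : Cfsg.Spor.HN, IsConj W0 (x ^ 4) → IsConj a x) ∧ ∀ x : Cfsg.Spor.HN, ¬ IsConj W0 (x ^ 8) :=
  ⟨R8B, orderOf_R8B, conj_four_8B (IsConj.refl _), card_8B, fun _ h => conj_eight h, not_sixteen⟩

end Cfsg.Agent.H653.HNE
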