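import Cfsg.Agent.H653.HNE.LqData

/-!
# The 2-elements of `(A5 × A5).2`, Harada-Norton group (helper653)
-/

set_option autoImplicit false
set_option maxRecDepth 100000

namespace Cfsg.Agent.H653.HNE

open Subgroup
open Cfsg.Agent.HN.XStruct Cfsg.Agent.KFacts.HN Cfsg.Agent.HN.XMat Cfsg.Agent.HN.XInst

/-- the number of conjugates -/
theorem card_conj {H : Type*} [Group H] (x : H) :
    Nat.card {y : H // IsConj x y} * Nat.card (centralizer ({x} : Set H)) = Nat.card H := by
  have h1 : {y : H // IsConj x y} = (MulAction.orbit (ConjAct H) x : Set H) := by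
    have h2 : {y : H | IsConj x y} = MulAction.orbit (ConjAct H) x := by
      ext y
      rw [Set.mem_ofPred_eq, ConjAct.mem_orbit_conjAct]
      exact isConj_comm
    exact congrArg (fun s : Set H => (s : Type _)) h2
  have h3 := MulAction.index_stabilizer (G := ConjAct H) x
  rw [Subgroup.nat_card_centralizer_nat_card_stabilizer, h1, Nat.card_coe_set_eq, ← h3, mul_comm]
  exact Subgroup.card_mul_index _

/-- all elements of a list -/
def allL {α : Type} (l : List α) (p : α → Bool) : Bool := List.rec true (fun a _ b => and (p a) b) l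

/-- some element of a list -/
def anyL {α : Type} (l : List α) (p : α → Bool) : Bool := List.rec false (fun a _ b => or (p a) b) l

theorem allL_iff {α : Type} (l : List α) (p : α → Bool) : allL l p = true ↔ ∀ a ∈ l, p a = true := by
  induction l with
  | nil => exact ⟨fun _ a ha => absurd ha List.not_mem_nil, fun _ => rfl⟩
  | cons b l ih =>
    have h : allL (b :: l) p = (p b && allL l p) := rfl
    rw [h, Bool.and_eq_true, ih, List.forall_mem_cons]

theorem anyL_iff {α : Type} (l : List α) (p : α → Bool) : anyL l p = true ↔ ∃ a ∈ l, p a = true := by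
  induction l with
  | nil => exact ⟨fun h => absurd (show false = true from h) Bool.false_ne_true, fun ⟨a, ha, _⟩ => absurd ha List.not_mem_nil⟩
  | cons b l ih =>
    have h : anyL (b :: l) p = (p b || anyL l p) := rfl
    rw [h, Bool.or_eq_true, ih, List.exists_mem_cons_iff]

theorem mw_app (v w : List ℕ) : mw (v ++ w) = mul (mw v) (mw w) := by
  apply acts_unique' (mw_lt _) (mul_lt _ _) (x := evw γ (v ++ w)) (hyp.toBas.acts_evw _)
  rw [evw_append]
  exact hyp.toBas.acts_mul (hyp.toBas.acts_evw v) (hyp.toBas.acts_evw w)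

instance finLq : Finite Lq := Nat.finite_of_card_ne_zero (by rw [card_Lq]; norm_num)

/-- the elements with words in a list -/
def SL (W : List (List ℕ)) : Set Lq := {x | ∃ w ∈ W, x = e w}

/-- their number -/
theorem card_SL {W : List (List ℕ)} (h : (W.map mw).Nodup) : Nat.card (SL W) = W.length := by
  have hb : Function.Bijective (fun i : Fin W.length => (⟨e (W.get i), W.get i, W.get_mem i, rfl⟩ : SL W)) := by
    constructor
    · intro i j hij
      have h1 : e (W.get i) = e (W.get j) := congrArg Subtype.val hij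
      rw [e_eq_iff] at h1
      have h2 : (W.map mw)[i.1]'(by rw [List.length_map]; exact i.2) =
          (W.map mw)[j.1]'(by rw [List.length_map]; exact j.2) := by
        rw [List.getElem_map, List.getElem_map]
        exact h1
      exact Fin.ext ((h.getElem_inj_iff).1 h2)
    · rintro ⟨x, w, hw, rfl⟩
      obtain ⟨i, hi, rfl⟩ := List.getElem_of_mem hw
      exact ⟨⟨i, hi⟩, rfl⟩
  rw [← Nat.card_congr (Equiv.ofBijective _ hb), Nat.card_fin]

theorem TM_eq : TW.map mw = TM := by decide +kernel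
theorem TM_nodup : TM.Nodup := by decide +kernel
theorem TM_mul : allL TM (fun A => allL TM fun B => force (mul A B) fun P => anyL TM fun D => Nat.beq P D) = true := by
  decide +kernel
theorem TM_four : allL TM (fun A => Nat.beq (mul A (mul A (mul A A))) MI) = true := by decide +kernel

theorem T_mul {v w : List ℕ} (hv : v ∈ TW) (hw : w ∈ TW) : ∃ u ∈ TW, e v * e w = e u := by
  have h1 : mw v ∈ TM := by rw [← TM_eq]; exact List.mem_map_of_mem hv
  have h2 : mw w ∈ TM := by rw [← TM_eq]; exact List.mem_map_of_mem hw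
  have h3 := (allL_iff _ _).1 ((allL_iff _ _).1 TM_mul _ h1) _ h2
  rw [force_eq, anyL_iff] at h3
  obtain ⟨D, hD, h4⟩ := h3
  rw [Nat.beq_eq] at h4
  rw [← TM_eq, List.mem_map] at hD
  obtain ⟨u, hu, rfl⟩ := hD
  refine ⟨u, hu, ?_⟩
  rw [← e_append]
  exact e_eq (by rw [mw_app, h4])

theorem T_four {v : List ℕ} (hv : v ∈ TW) : e v * (e v * (e v * e v)) = 1 := by
  have h1 : mw v ∈ TM := by rw [← TM_eq]; exact List.mem_map_of_mem hv
  have h3 := (allL_iff _ _).1 TM_four _ h1
  rw [Nat.beq_eq] at h3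
  rw [← e_append, ← e_append, ← e_append, ← e_nil]
  exact e_eq (by rw [mw_app, mw_app, mw_app, h3, mw_nil])

/-- a Sylow 2-subgroup -/
def TT : Subgroup Lq where
  carrier := SL TW
  one_mem' := ⟨[], by decide, e_nil.symm⟩
  mul_mem' := by
    rintro _ _ ⟨v, hv, rfl⟩ ⟨w, hw, rfl⟩
    exact T_mul hv hw
  inv_mem' := by
    rintro _ ⟨v, hv, rfl⟩
    obtain ⟨u, hu, h1⟩ := T_mul hv hv
    obtain ⟨t, ht, h2⟩ := T_mul hv hu
    refine ⟨t, ht, ?_⟩
    rw [← h2, ← h1, inv_eq_iff_mul_eq_one]
    exact T_four hv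

theorem card_TT : Nat.card TT = 32 := by
  have h : Nat.card TT = Nat.card (SL TW) := rfl
  rw [h, card_SL (by rw [TM_eq]; exact TM_nodup)]
  rfl

theorem index_TT : TT.index = 225 := by
  have h := TT.card_mul_index
  rw [card_TT, card_Lq] at h
  omega

/-- the Sylow subgroup -/
noncomputable def TS : Sylow 2 Lq :=
  (IsPGroup.of_card (p := 2) (n := 5) (G := TT) (by rw [card_TT]; norm_num)).toSylow (by rw [index_TT]; norm_num)

theorem TS_coe : (TS : Subgroup Lq) = TT := rfl

/-- elements of order dividing eight are conjugate into `TT` -/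
theorem to_TT {u : Lq} (hu : u ^ 8 = 1) : ∃ c : Lq, c * u * c⁻¹ ∈ TT := by
  have hp : IsPGroup 2 (zpowers u) := by
    rintro ⟨v, n, rfl⟩
    refine ⟨3, Subtype.ext ?_⟩
    change (u ^ n) ^ 2 ^ 3 = 1
    have h1 : (u ^ n) ^ 2 ^ 3 = (u ^ 8) ^ n := by
      rw [← zpow_natCast, ← zpow_natCast, ← zpow_mul, ← zpow_mul, mul_comm]
      rfl
    rw [h1, hu, one_zpow]
  obtain ⟨P, hP⟩ := hp.exists_le_sylow
  obtain ⟨c, hc⟩ := MulAction.exists_smul_eq Lq P TS
  refine ⟨c, ?_⟩
  have h1 : u ∈ (P : Subgroup Lq) := hP (mem_zpowers u)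
  have h2 : MulAut.conj c u ∈ ((c • P : Sylow 2 Lq) : Subgroup Lq) := by
    rw [Sylow.coe_subgroup_smul]
    exact Subgroup.smul_mem_pointwise_smul _ _ _ h1
  rw [hc] at h2
  exact h2

/-- the representatives -/
def rp (i : ℕ) : List ℕ :=
  match i with
  | 0 => []
  | 1 => [0, 2, 0, 2, 0, 2]
  | 2 => [0, 1, 0, 1, 1]
  | 3 => [1, 1]
  | _ => [1]

/-- all is conjugate to a representative -/
def chkT (i : ℕ) : Bool :=
  Nat.beq (mw ((TC.getD i (0, [])).2 ++ TW.getD i [])) (mw (rp (TC.getD i (0, [])).1 ++ (TC.getD i (0, [])).2))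

theorem T_conj : ∀ i < 32, chkT i = true := by decide +kernel

theorem TC_lt : ∀ i < 32, (TC.getD i (0, [])).1 < 5 := by decide +kernel

/-- **classes of 2-elements** -/
theorem to_rep {u : Lq} (hu : u ^ 8 = 1) : ∃ c : Lq, ∃ i < 5, c * u * c⁻¹ = e (rp i) := by
  obtain ⟨c, w, hw, h⟩ := to_TT hu
  obtain ⟨i, hi, rfl⟩ := List.getElem_of_mem hw
  have hi' : i < 32 := hi
  have h1 := T_conj i hi'
  unfold chkT at h1
  rw [Nat.beq_eq] at h1
  have h2 := e_eq h1
  rw [e_append, e_append, List.getD_eq_getElem _ _ hi, ← h] at h2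
  refine ⟨e (TC.getD i (0, [])).2 * c, _, TC_lt i hi', ?_⟩
  rw [mul_inv_rev, ← mul_assoc, mul_inv_eq_iff_eq_mul]
  calc e (TC.getD i (0, [])).2 * c * u * c⁻¹ = e (TC.getD i (0, [])).2 * (c * u * c⁻¹) := by group
    _ = _ := h2

/-! ### The class of `[0, 2, 0, 2, 0, 2]` -/

theorem MA_eq : WA.map mw = MA := by decide +kernel
theorem MA_nodup : MA.Nodup := by decide +kernel
theorem MB_eq : WB.map mw = MB := by decide +kernel
theorem MB_nodup : MB.Nodup := by decide +kernel

theorem WA_conj : ∀ i < 30, mw (VA.getD i [] ++ WA.getD i []) = mw (rp 1 ++ VA.getD i []) := by decide +kernel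
theorem WB_conj : ∀ i < 225, mw (VB.getD i [] ++ WB.getD i []) = mw (rp 3 ++ VB.getD i []) := by decide +kernel

/-- lower bound of the number of conjugates -/
theorem le_conj {y : List ℕ} {W V : List (List ℕ)} (hn : (W.map mw).Nodup)
    (h : ∀ i < W.length, mw (V.getD i [] ++ W.getD i []) = mw (y ++ V.getD i [])) :
    W.length ≤ Nat.card {z : Lq // IsConj (e y) z} := by
  rw [← card_SL hn]
  refine Nat.card_le_card_of_injective (fun z : SL W => (⟨z.1, ?_⟩ : {z : Lq // IsConj (e y) z})) ?_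
  · obtain ⟨w, hw, hz⟩ := z.2
    obtain ⟨i, hi, rfl⟩ := List.getElem_of_mem hw
    have h1 := e_eq (h i hi)
    rw [e_append, e_append, List.getD_eq_getElem _ _ hi, ← hz] at h1
    refine isConj_iff.2 ⟨(e (V.getD i []))⁻¹, ?_⟩
    rw [inv_inv, mul_assoc, ← h1]
    group
  · intro a b hab
    have h1 : a.1 = b.1 := congrArg (fun t : {z : Lq // IsConj (e y) z} => t.1) hab
    exact Subtype.ext h1

theorem MA_clo : allL [0, 1, 2] (fun g => allL MA fun M => force (mul (mul (gen g) M) (GI.getD g 0)) fun M' =>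
    and (Nat.beq (mul M' (gen g)) (mul (gen g) M)) (anyL MA fun D => Nat.beq M' D)) = true := by decide +kernel

theorem mw_gen : ∀ g < 3, mw [g] = gen g := by decide +kernel

theorem WA_clo {g : ℕ} (hg : g < 3) {w : List ℕ} (hw : w ∈ WA) : ∃ u ∈ WA, e [g] * e w * (e [g])⁻¹ = e u := by
  have h1 : mw w ∈ MA := by rw [← MA_eq]; exact List.mem_map_of_mem hw
  have hg' : g ∈ [0, 1, 2] := by
    interval_cases g <;> simp
  have h3 := (allL_iff _ _).1 ((allL_iff _ _).1 MA_clo _ hg') _ h1
  rw [force_eq, Bool.and_eq_true, anyL_iff, Nat.beq_eq] at h3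
  obtain ⟨h3, D, hD, h4⟩ := h3
  rw [Nat.beq_eq] at h4
  rw [h4] at h3
  rw [← MA_eq, List.mem_map] at hD
  obtain ⟨u, hu, rfl⟩ := hD
  refine ⟨u, hu, ?_⟩
  rw [mul_inv_eq_iff_eq_mul, ← e_append, ← e_append]
  exact e_eq (by rw [mw_app, mw_app, mw_gen g hg, h3])

theorem WA_clo' (v : List ℕ) {w : List ℕ} (hw : w ∈ WA) : ∃ u ∈ WA, e v * e w * (e v)⁻¹ = e u := by
  induction v with
  | nil => exact ⟨w, hw, by rw [e_nil]; group⟩
  | cons g v ih =>
    obtain ⟨u, hu, h⟩ := ih
    have h1 : e (g :: v) = e [g] * e v := e_append [g] v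
    have h2 : e (g :: v) * e w * (e (g :: v))⁻¹ = e [g] * e u * (e [g])⁻¹ := by
      rw [h1, ← h]; group
    rw [h2]
    rcases Nat.lt_or_ge g 2 with hg | hg
    · exact WA_clo (by omega) hu
    · rw [e_ge g hg]
      exact WA_clo (by norm_num) hu

theorem rp1_mem : rp 1 ∈ WA ∨ ∃ u ∈ WA, mw (rp 1) = mw u := by
  right
  have h1 : mw (rp 1) ∈ MA := by decide +kernel
  rw [← MA_eq, List.mem_map] at h1
  obtain ⟨u, hu, h⟩ := h1
  exact ⟨u, hu, h.symm⟩

theorem card_conj_A : Nat.card {z : Lq // IsConj (e (rp 1)) z} = 30 := by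
  apply le_antisymm
  · have h : Nat.card (SL WA) = 30 := by
      rw [card_SL (by rw [MA_eq]; exact MA_nodup)]; rfl
    rw [← h]
    refine Nat.card_le_card_of_injective (fun z : {z : Lq // IsConj (e (rp 1)) z} => (⟨z.1, ?_⟩ : SL WA)) ?_
    · obtain ⟨c, hc⟩ := isConj_iff.1 z.2
      obtain ⟨v, rfl⟩ := exists_word c
      have h1 : ∃ u ∈ WA, mw (rp 1) = mw u := by
        rcases rp1_mem with h | h
        · exact ⟨_, h, rfl⟩
        · exact h
      obtain ⟨u, hu, h1⟩ := h1
      obtain ⟨t, ht, h2⟩ := WA_clo' v hu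
      refine ⟨t, ht, ?_⟩
      rw [← e_eq h1] at h2
      rw [← h2]
      exact hc.symm
    · intro a b hab
      have h1 : a.1 = b.1 := congrArg (fun t : SL WA => t.1) hab
      exact Subtype.ext h1
  · exact le_conj (W := WA) (V := VA) (by rw [MA_eq]; exact MA_nodup) WA_conj

/-- **the centraliser of an involution of a factor** -/
theorem card_cent_A : Nat.card (centralizer ({e (rp 1)} : Set Lq)) = 240 := by
  have h := card_conj (e (rp 1))
  rw [card_conj_A, card_Lq] at h
  omega

/-! ### The centraliser of `[1, 1]` -/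

theorem TM_comm : allL TM (fun A => Nat.beq (mul A (mw [1, 1])) (mul (mw [1, 1]) A)) = true := by decide +kernel

theorem TT_le : TT ≤ centralizer ({e (rp 3)} : Set Lq) := by
  rintro _ ⟨w, hw, rfl⟩
  have h1 : mw w ∈ TM := by rw [← TM_eq]; exact List.mem_map_of_mem hw
  have h3 := (allL_iff _ _).1 TM_comm _ h1
  rw [Nat.beq_eq] at h3
  rw [mem_centralizer_singleton_iff, ← e_append, ← e_append]
  exact e_eq (by rw [mw_app, mw_app]; exact h3)

theorem card_cent_B : Nat.card (centralizer ({e (rp 3)} : Set Lq)) = 32 := by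
  have h := card_conj (e (rp 3))
  rw [card_Lq] at h
  have h1 : 225 ≤ Nat.card {z : Lq // IsConj (e (rp 3)) z} :=
    le_conj (W := WB) (V := VB) (by rw [MB_eq]; exact MB_nodup) WB_conj
  have h2 : 32 ∣ Nat.card (centralizer ({e (rp 3)} : Set Lq)) := by
    rw [← card_TT]
    exact Subgroup.card_dvd_of_le TT_le
  obtain ⟨k, hk⟩ := h2
  rw [hk] at h ⊢
  rcases Nat.eq_zero_or_pos k with h0 | h0
  · subst h0
    omega
  · have h3 : k < 2 := by
      by_contra h4
      have h5 : 225 * (32 * 2) ≤ Nat.card {z : Lq // IsConj (e (rp 3)) z} * (32 * k) :=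
        Nat.mul_le_mul h1 (Nat.mul_le_mul_left _ (by omega))
      omega
    have h4 : k = 1 := by omega
    rw [h4]

end Cfsg.Agent.H653.HNE
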