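import Cfsg.Agent.H653.HNE.Orbs
import Cfsg.Agent.H653.HNE.Lq

/-!
# Elements of order 4, 8, 16 with a power `W0` in the Harada-Norton group (helper653)

* `four` : `x ^ 2 = W0` implies that `x` is conjugate in `C(W0)` to `R4A` or `R4C`;
* `eight` : `x ^ 4 = W0` implies that `x` is conjugate in `C(W0)` to `R8B`;
* `sixteen` : `x ^ 8 ≠ W0`;
* `card_4A` : `|C(R4A)| = 15360`; `card_4C_dvd`, `card_8B_dvd`: upper bounds, `le_card_4C`, `le_card_8B` : lower bounds.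
-/

set_option autoImplicit false
set_option maxRecDepth 100000

namespace Cfsg.Agent.H653.HNE

open Subgroup
open Cfsg.Agent.HN.XWords Cfsg.Agent.HN.XStruct Cfsg.Agent.KFacts.HN
open Cfsg.Agent.ThType.CSideModel (pw Basis ι lo hi par4 nmul img ι_nmul ι_zero ι_z ι_gen)
open Cfsg.Agent.ThType.CSideWords (ninv ι_ninv ι_congr)

theorem mem_of_pow {x : Cfsg.Spor.HN} {k : ℕ} (hx : x ^ k = W0) : x ∈ PP := by
  rw [mem_PP, ← hx]
  exact ((Commute.refl x).pow_right k).eq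

theorem mem_RS_iff {x : Cfsg.Spor.HN} (hx : x ∈ PP) : x ∈ RS ↔ ρ ⟨x, hx⟩ = 1 := by
  constructor
  · rintro ⟨u, hu, he⟩
    have h1 : u = ⟨x, hx⟩ := Subtype.ext he
    rw [← h1]
    exact hu
  · intro h
    exact ⟨⟨x, hx⟩, h, rfl⟩

theorem ρ_W0 : ρ ⟨W0, W0_mem_PP⟩ = 1 := (mem_RS_iff W0_mem_PP).1 W0_mem_RS

/-- moving an element into the coset of a word -/
theorem to_coset {x : Cfsg.Spor.HN} (hx : x ∈ PP) {y : List ℕ} {c : Lq} (h : c * ρ ⟨x, hx⟩ * c⁻¹ = e y) :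
    ∃ d ∈ PP, ∃ q ∈ RS, d * x * d⁻¹ = q * evw Γ y := by
  obtain ⟨d, rfl⟩ := ρ_surj c
  refine ⟨d, d.2, (d : Cfsg.Spor.HN) * x * (d : Cfsg.Spor.HN)⁻¹ * (evw Γ y)⁻¹, ?_, by group⟩
  refine ⟨d * ⟨x, hx⟩ * d⁻¹ * ⟨evw Γ y, e_mem_PP y⟩⁻¹, ?_, rfl⟩
  change ρ _ = 1
  rw [map_mul, map_mul, map_mul, map_inv, map_inv, ρ_e, h, mul_inv_cancel]

theorem ρ_eight {x : Cfsg.Spor.HN} {k : ℕ} (hk : k = 2 ∨ k = 4 ∨ k = 8) (hx : x ^ k = W0) :
    (ρ ⟨x, mem_of_pow hx⟩) ^ 8 = 1 := by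
  have h1 : (ρ ⟨x, mem_of_pow hx⟩) ^ k = 1 := by
    rw [← map_pow, ← ρ_W0]
    exact congrArg ρ (Subtype.ext hx)
  rcases hk with rfl | rfl | rfl
  · rw [show (8 : ℕ) = 2 * 4 from rfl, pow_mul, h1, one_pow]
  · rw [show (8 : ℕ) = 4 * 2 from rfl, pow_mul, h1, one_pow]
  · exact h1

/-- the five cosets -/
theorem cosets {x : Cfsg.Spor.HN} {k : ℕ} (hk : k = 2 ∨ k = 4 ∨ k = 8) (hx : x ^ k = W0) :
    ∃ d ∈ PP, ∃ q ∈ RS, d * x * d⁻¹ = q ∨ d * x * d⁻¹ = q * wv yA ∨ d * x * d⁻¹ = q * wv yS ∨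
      d * x * d⁻¹ = q * wv yB ∨ d * x * d⁻¹ = q * wv yC := by
  obtain ⟨c, i, hi, h⟩ := to_rep (ρ_eight hk hx)
  obtain ⟨d, hd, q, hq, h1⟩ := to_coset (mem_of_pow hx) h
  refine ⟨d, hd, q, hq, ?_⟩
  interval_cases i
  · left
    rw [h1]
    exact mul_one q
  · right; left
    rw [h1, wv_Γ (by decide)]
    rfl
  · right; right; left
    rw [h1, wv_Γ (by decide)]
    rfl
  · right; right; right; left
    rw [h1, wv_Γ (by decide)]
    rfl
  · right; right; right; right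
    rw [h1, wv_Γ (by decide)]
    rfl

theorem conj_pow_W0 {x d : Cfsg.Spor.HN} (hd : d ∈ PP) {k : ℕ} (hx : x ^ k = W0) : (d * x * d⁻¹) ^ k = W0 := by
  rw [conj_pow, hx]
  have h := mem_PP.1 hd
  rw [h, mul_inv_cancel_right]

theorem back {x y c d : Cfsg.Spor.HN} (hc : c ∈ PP) (hd : d ∈ PP) (h : c * y * c⁻¹ = d * x * d⁻¹) :
    ∃ g ∈ PP, g * y * g⁻¹ = x := by
  refine ⟨d⁻¹ * c, PP.mul_mem (PP.inv_mem hd) hc, ?_⟩
  calc d⁻¹ * c * y * (d⁻¹ * c)⁻¹ = d⁻¹ * (c * y * c⁻¹) * d := by group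
    _ = x := by rw [h]; group

theorem two_C {q : Cfsg.Spor.HN} (hq : q ∈ RS) : (q * wv yC) ^ 2 ≠ W0 := by
  intro h
  have h1 : wv yC = evw Γ [1] := wv_Γ (by decide)
  rw [h1] at h
  have h2 : ρ ⟨q * evw Γ [1], PP.mul_mem (RS_le_PP hq) (e_mem_PP _)⟩ = e [1] := by
    have h3 : (⟨q * evw Γ [1], PP.mul_mem (RS_le_PP hq) (e_mem_PP _)⟩ : PP) =
        ⟨q, RS_le_PP hq⟩ * ⟨evw Γ [1], e_mem_PP _⟩ := rfl
    rw [h3, map_mul, (mem_RS_iff (RS_le_PP hq)).1 hq, one_mul, ρ_e]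
  have h3 : (e [1]) ^ 2 = 1 := by
    rw [← h2, ← map_pow, ← ρ_W0]
    exact congrArg ρ (Subtype.ext h)
  rw [pow_two, ← e_append, ← e_nil, e_eq_iff] at h3
  exact absurd h3 (by decide +kernel)

/-- **Order 4** -/
theorem four {x : Cfsg.Spor.HN} (hx : x ^ 2 = W0) :
    (∃ g ∈ PP, g * R4A * g⁻¹ = x) ∨ (∃ g ∈ PP, g * R4C * g⁻¹ = x) := by
  obtain ⟨d, hd, q, hq, h⟩ := cosets (Or.inl rfl) hx
  have h0 := conj_pow_W0 hd hx
  rcases h with h | h | h | h | h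
  · left
    rw [h] at h0
    obtain ⟨c, hc, h1⟩ := two_I hq h0
    exact back hc hd (h1.trans h.symm)
  · right
    rw [h] at h0
    obtain ⟨c, hc, h1⟩ := two_A hq h0
    exact back hc hd (h1.trans h.symm)
  · rw [h] at h0
    exact absurd h0 (two_S hq)
  · rw [h] at h0
    exact absurd h0 (two_B hq)
  · exfalso
    rw [h] at h0
    exact two_C hq h0

/-- **Order 8** -/
theorem eight {x : Cfsg.Spor.HN} (hx : x ^ 4 = W0) : ∃ g ∈ PP, g * R8B * g⁻¹ = x := by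
  obtain ⟨d, hd, q, hq, h⟩ := cosets (Or.inr (Or.inl rfl)) hx
  have h0 := conj_pow_W0 hd hx
  rcases h with h | h | h | h | h
  · rw [h] at h0
    exact absurd h0 (four_I hq)
  · rw [h] at h0
    exact absurd h0 (four_A hq)
  · rw [h] at h0
    exact absurd h0 (four_S hq)
  · rw [h] at h0
    obtain ⟨c, hc, h1⟩ := four_B hq h0
    exact back hc hd (h1.trans h.symm)
  · rw [h] at h0
    exact absurd h0 (four_C hq)

/-- **Order 16** -/
theorem sixteen (x : Cfsg.Spor.HN) : x ^ 8 ≠ W0 := by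
  intro hx
  obtain ⟨d, hd, q, hq, h⟩ := cosets (Or.inr (Or.inr rfl)) hx
  have h0 := conj_pow_W0 hd hx
  rcases h with h | h | h | h | h
  · rw [h] at h0
    exact eight_of_sq (RS.pow_mem hq 2) h0
  · rw [h] at h0
    obtain ⟨n, hn, rfl⟩ := exists_code hq
    exact eight_of_sq (by rw [sq_coset actA wv_yA_sq n]; exact ι_mem _) h0
  · rw [h] at h0
    obtain ⟨n, hn, rfl⟩ := exists_code hq
    exact eight_of_sq (by rw [sq_coset actS wv_yS_sq n]; exact ι_mem _) h0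
  · rw [h] at h0
    obtain ⟨n, hn, rfl⟩ := exists_code hq
    exact eight_of_sq (by rw [sq_coset actB wv_yB_sq n]; exact ι_mem _) h0
  · rw [h] at h0
    exact eight_C hq h0

/-! ### Powers of the representatives -/

theorem R4A_sq : R4A ^ 2 = W0 := by
  unfold R4A
  rw [ι_sq, ← ι_z (z := W0) (x := bx)]
  rfl

theorem R4C_sq : R4C ^ 2 = W0 := by
  unfold R4C
  rw [wv_yA_sq, ι_z]

theorem R8B_four : R8B ^ 4 = W0 := by
  unfold R8B
  rw [pow4, sq_coset actB wv_yB_sq 128, ι_sq, ← ι_z (z := W0) (x := bx)]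
  congr 1

theorem orderOf_W0 : orderOf W0 = 2 := orderOf_eq_prime (by rw [pow_two, W0_sq]) W0_ne

theorem order_of_pow {x : Cfsg.Spor.HN} {k : ℕ} (hx : x ^ 2 ^ k = W0) : orderOf x = 2 ^ (k + 1) := by
  refine orderOf_eq_prime_pow (p := 2) (n := k) ?_ ?_
  · rw [hx]
    exact W0_ne
  · rw [pow_succ, pow_mul, hx, pow_two, W0_sq]

theorem orderOf_R4A : orderOf R4A = 4 := order_of_pow (k := 1) R4A_sq
theorem orderOf_R4C : orderOf R4C = 4 := order_of_pow (k := 1) R4C_sq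
theorem orderOf_R8B : orderOf R8B = 8 := order_of_pow (k := 2) R8B_four

/-! ### Centralisers -/

/-- the centraliser of an element with a power `W0` -/
theorem cent_le {x : Cfsg.Spor.HN} {k : ℕ} (hx : x ^ k = W0) : centralizer ({x} : Set Cfsg.Spor.HN) ≤ PP := by
  intro g hg
  rw [mem_centralizer_singleton_iff] at hg
  rw [mem_PP, ← hx]
  exact ((show Commute g x from hg).pow_right k).eq

theorem card_dvd_of_hom {H A : Type*} [Group H] [Group A] (φ : H →* A) {m n : ℕ} (hk : Nat.card φ.ker ∣ m)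
    (hr : Nat.card φ.range ∣ n) : Nat.card H ∣ m * n := by
  rw [← Subgroup.card_mul_index φ.ker, Subgroup.index_ker]
  exact Nat.mul_dvd_mul hk hr

instance finRS : Finite RS := Nat.finite_of_card_ne_zero (by rw [card_RS]; norm_num)

instance finPP : Finite PP := Nat.finite_of_card_ne_zero (by rw [card_PP]; norm_num)

/-- **Upper bound** of the centraliser -/
theorem cent_dvd {x : Cfsg.Spor.HN} {k : ℕ} (hx : x ^ k = W0) :
    Nat.card (centralizer ({x} : Set Cfsg.Spor.HN)) ∣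
      512 * Nat.card (centralizer ({ρ ⟨x, mem_of_pow hx⟩} : Set Lq)) := by
  have hle := cent_le hx
  let ψ : ↥(centralizer ({x} : Set Cfsg.Spor.HN)) →* Lq := ρ.comp (Subgroup.inclusion hle)
  refine card_dvd_of_hom ψ ?_ ?_
  · rw [← card_RS]
    let j : ↥ψ.ker →* ↥RS :=
      { toFun := fun g => ⟨g.1.1, (mem_RS_iff (hle g.1.2)).2 g.2⟩
        map_one' := rfl
        map_mul' := fun _ _ => rfl }
    refine Subgroup.card_dvd_of_injective j fun a b hab => ?_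
    have h1 := congrArg Subtype.val hab
    exact Subtype.ext (Subtype.ext h1)
  · refine Subgroup.card_dvd_of_le ?_
    rintro _ ⟨g, rfl⟩
    rw [mem_centralizer_singleton_iff]
    have h1 := mem_centralizer_singleton_iff.1 g.2
    have h2 : Subgroup.inclusion hle g * ⟨x, mem_of_pow hx⟩ = ⟨x, mem_of_pow hx⟩ * Subgroup.inclusion hle g :=
      Subtype.ext h1
    have h3 := congrArg ρ h2
    rw [map_mul, map_mul] at h3
    exact h3

/-- the centraliser in `PP` -/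
theorem card_cent_PP {x : Cfsg.Spor.HN} {k : ℕ} (hx : x ^ k = W0) :
    Nat.card (centralizer ({(⟨x, mem_of_pow hx⟩ : PP)} : Set PP)) =
      Nat.card (centralizer ({x} : Set Cfsg.Spor.HN)) := by
  have hle := cent_le hx
  refine Nat.card_congr
    { toFun := fun g => ⟨g.1.1, mem_centralizer_singleton_iff.2
        (congrArg Subtype.val (mem_centralizer_singleton_iff.1 g.2))⟩
      invFun := fun g => ⟨⟨g.1, hle g.2⟩, mem_centralizer_singleton_iff.2
        (Subtype.ext (mem_centralizer_singleton_iff.1 g.2))⟩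
      left_inv := fun _ => rfl
      right_inv := fun _ => rfl }

theorem count240 : Fintype.card {n : Fin 512 // goodI n = true} = 240 := by decide +kernel

/-- the centraliser of `R4A` -/
theorem card_4A : Nat.card (centralizer ({R4A} : Set Cfsg.Spor.HN)) = 15360 := by
  have hcx := card_conj (⟨R4A, mem_of_pow R4A_sq⟩ : PP)
  rw [card_cent_PP R4A_sq, card_PP] at hcx
  have hc : Nat.card {y : PP // IsConj (⟨R4A, mem_of_pow R4A_sq⟩ : PP) y} = 240 := by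
    rw [← count240, ← Nat.card_eq_fintype_card]
    symm
    have hcj : ∀ n : {n : Fin 512 // goodI n = true},
        IsConj (⟨R4A, mem_of_pow R4A_sq⟩ : PP) ⟨ι W0 bx n.1, ι_mem_PP _⟩ := by
      intro n
      obtain ⟨c, hc, hc2⟩ := orbit_I n.1.2 n.2
      exact isConj_iff.2 ⟨⟨c, hc⟩, Subtype.ext hc2⟩
    refine Nat.card_congr (Equiv.ofBijective (fun n => ⟨⟨ι W0 bx n.1, ι_mem_PP _⟩, hcj n⟩) ⟨?_, ?_⟩)
    · intro m n hmn
      have h1 : ι W0 bx m.1 = ι W0 bx n.1 := congrArg (fun t => ((t.1 : PP) : Cfsg.Spor.HN)) hmn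
      exact Subtype.ext (Fin.ext (ι_inj m.1.2 n.1.2 h1))
    · rintro ⟨⟨y, hyC⟩, hy⟩
      obtain ⟨g, hg⟩ := isConj_iff.1 hy
      have hg' : (g : Cfsg.Spor.HN) * R4A * (g : Cfsg.Spor.HN)⁻¹ = y := congrArg Subtype.val hg
      have hyQ : y ∈ RS := by
        rw [← hg']
        exact conj_RS g.2 (ι_mem 17)
      obtain ⟨n, hn, rfl⟩ := exists_code hyQ
      have h2 : ι W0 bx n ^ 2 = W0 := by
        rw [← hg']
        exact conj_pow_W0 g.2 R4A_sq
      have h3 := sq_coset actI (p := 0) (by rw [wv_yI, one_pow, ι_zero]) n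
      rw [wv_yI, mul_one, h2] at h3
      have h4 := ι_eq_z (blt_of boundI hn) h3.symm
      refine ⟨⟨⟨n, hn⟩, ?_⟩, rfl⟩
      unfold goodI
      rw [Nat.beq_eq]
      exact h4
  rw [hc] at hcx
  omega

/-- **Lower bound** of the centraliser -/
theorem cent_ge {x : Cfsg.Spor.HN} {k : ℕ} (hx : x ^ k = W0) :
    Nat.card (centralizer ({ρ ⟨x, mem_of_pow hx⟩} : Set Lq)) ≤ Nat.card (centralizer ({x} : Set Cfsg.Spor.HN)) := by
  set x' : PP := ⟨x, mem_of_pow hx⟩ with hx'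
  have hcx := card_conj x'
  have hcp := card_conj (ρ x')
  rw [card_cent_PP hx, card_PP] at hcx
  rw [card_Lq] at hcp
  choose s hs using ρ_surj
  have hinj : Nat.card {y : PP // IsConj x' y} ≤ Nat.card ({σ : Lq // IsConj (ρ x') σ} × ↥RS) := by
    refine Nat.card_le_card_of_injective (fun y => (⟨ρ y.1, ρ.map_isConj y.2⟩,
      ⟨((y.1 * (s (ρ y.1))⁻¹ : PP) : Cfsg.Spor.HN), ?_⟩)) ?_
    · refine (mem_RS_iff (y.1 * (s (ρ y.1))⁻¹).2).2 ?_
      change ρ (y.1 * (s (ρ y.1))⁻¹) = 1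
      rw [map_mul, map_inv, hs, mul_inv_cancel]
    · intro a b hab
      have h1 : ρ a.1 = ρ b.1 := congrArg (fun t => t.1.1) hab
      have h2 : (a.1 * (s (ρ a.1))⁻¹ : PP) = b.1 * (s (ρ b.1))⁻¹ :=
        Subtype.ext (congrArg (fun t => t.2.1) hab)
      rw [h1] at h2
      exact Subtype.ext (mul_right_cancel h2)
  rw [Nat.card_prod, card_RS] at hinj
  set m := Nat.card {y : PP // IsConj x' y}
  set p := Nat.card {σ : Lq // IsConj (ρ x') σ}
  set c := Nat.card (centralizer ({ρ x'} : Set Lq))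
  set d := Nat.card (centralizer ({x} : Set Cfsg.Spor.HN))
  have hm : 0 < m := by
    rcases Nat.eq_zero_or_pos m with h0 | h0
    · rw [h0] at hcx
      omega
    · exact h0
  have h1 : m * c ≤ m * d := by
    calc m * c ≤ p * 512 * c := Nat.mul_le_mul_right c hinj
      _ = 512 * (p * c) := by ring
      _ = m * d := by rw [hcp, hcx]
  exact Nat.le_of_mul_le_mul_left h1 hm

theorem ρ_R4C : ρ ⟨R4C, mem_of_pow R4C_sq⟩ = e (rp 1) := by
  rw [← ρ_e]
  exact congrArg ρ (Subtype.ext (wv_Γ (by decide)))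

theorem ρ_R8B : ρ ⟨R8B, mem_of_pow R8B_four⟩ = e (rp 3) := by
  rw [← ρ_e]
  have h1 : (⟨R8B, mem_of_pow R8B_four⟩ : PP) = ⟨ι W0 bx 128, ι_mem_PP _⟩ * ⟨evw Γ (rp 3), e_mem_PP _⟩ := by
    apply Subtype.ext
    change ι W0 bx 128 * wv yB = ι W0 bx 128 * evw Γ (rp 3)
    rw [wv_Γ (by decide)]
    rfl
  rw [h1, map_mul, (mem_RS_iff (ι_mem_PP 128)).1 (ι_mem 128), one_mul]

theorem card_4C_dvd : Nat.card (centralizer ({R4C} : Set Cfsg.Spor.HN)) ∣ 122880 := by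
  have h := cent_dvd R4C_sq
  rw [ρ_R4C, card_cent_A] at h
  exact h

theorem card_8B_dvd : Nat.card (centralizer ({R8B} : Set Cfsg.Spor.HN)) ∣ 16384 := by
  have h := cent_dvd R8B_four
  rw [ρ_R8B, card_cent_B] at h
  exact h

theorem le_card_4C : 240 ≤ Nat.card (centralizer ({R4C} : Set Cfsg.Spor.HN)) := by
  have h := cent_ge R4C_sq
  rw [ρ_R4C, card_cent_A] at h
  exact h

theorem le_card_8B : 32 ≤ Nat.card (centralizer ({R8B} : Set Cfsg.Spor.HN)) := by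
  have h := cent_ge R8B_four
  rw [ρ_R8B, card_cent_B] at h
  exact h

/-! ### Statements in `HN` -/

theorem conj_four {x : Cfsg.Spor.HN} (hx : IsConj W0 (x ^ 2)) : IsConj R4A x ∨ IsConj R4C x := by
  obtain ⟨c, hc⟩ := isConj_iff.1 hx.symm
  have h1 : (c * x * c⁻¹) ^ 2 = W0 := by rw [conj_pow]; exact hc
  have h2 : IsConj (c * x * c⁻¹) x := (isConj_iff.2 ⟨c, rfl⟩ : IsConj x (c * x * c⁻¹)).symm
  rcases four h1 with ⟨g, -, hg⟩ | ⟨g, -, hg⟩
  · exact Or.inl ((isConj_iff.2 ⟨g, hg⟩).trans h2)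
  · exact Or.inr ((isConj_iff.2 ⟨g, hg⟩).trans h2)

theorem conj_eight {x : Cfsg.Spor.HN} (hx : IsConj W0 (x ^ 4)) : IsConj R8B x := by
  obtain ⟨c, hc⟩ := isConj_iff.1 hx.symm
  have h1 : (c * x * c⁻¹) ^ 4 = W0 := by rw [conj_pow]; exact hc
  have h2 : IsConj (c * x * c⁻¹) x := (isConj_iff.2 ⟨c, rfl⟩ : IsConj x (c * x * c⁻¹)).symm
  obtain ⟨g, -, hg⟩ := eight h1
  exact (isConj_iff.2 ⟨g, hg⟩).trans h2

theorem not_sixteen (x : Cfsg.Spor.HN) : ¬ IsConj W0 (x ^ 8) := by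
  intro hx
  obtain ⟨c, hc⟩ := isConj_iff.1 hx.symm
  have h1 : (c * x * c⁻¹) ^ 8 = W0 := by rw [conj_pow]; exact hc
  exact sixteen _ h1

theorem conj_sq_4A {x : Cfsg.Spor.HN} (hx : IsConj R4A x) : IsConj W0 (x ^ 2) := by
  rw [← R4A_sq]
  exact hx.pow 2

theorem conj_sq_4C {x : Cfsg.Spor.HN} (hx : IsConj R4C x) : IsConj W0 (x ^ 2) := by
  rw [← R4C_sq]
  exact hx.pow 2

theorem conj_four_8B {x : Cfsg.Spor.HN} (hx : IsConj R8B x) : IsConj W0 (x ^ 4) := by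
  rw [← R8B_four]
  exact hx.pow 4

end Cfsg.Agent.H653.HNE
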