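import Cfsg.Agent.H653.HNE.Sums

/-!
# Numbers of 2-elements of `C(W0)` by class, Harada-Norton group (helper653)

`n2B = 8311`, `n2A = 1080`, `nSqA = 48000`, `nFourA = 230400`, `nSqB = 162000`, `nFourB = 172800`, and the number of
commuting pairs `nPair = 17040`.
-/

set_option autoImplicit false
set_option maxRecDepth 100000

namespace Cfsg.Agent.H653.HNE

open Subgroup
open Cfsg.Agent.HN.XWords Cfsg.Agent.HN.XStruct Cfsg.Agent.KFacts.HN
open Cfsg.Agent.HN.XMat (force force_eq)
open Cfsg.Agent.ThType.CSideModel (pw Basis ι lo hi par4 nmul img ι_nmul ι_zero ι_z ι_gen)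
open Cfsg.Agent.ThType.CSideWords (ninv ι_ninv ι_congr)

theorem isConj_conj_iff {G : Type*} [Group G] {a x : G} (c : G) : IsConj a (c * x * c⁻¹) ↔ IsConj a x := by
  have h : IsConj x (c * x * c⁻¹) := isConj_iff.2 ⟨c, rfl⟩
  exact ⟨fun h1 => h1.trans h.symm, fun h1 => h1.trans h⟩

theorem pow_eight_of_conj {a x : Cfsg.Spor.HN} {k l : ℕ} (ha : a ^ 2 = 1) (hk : k * 2 * l = 8) (h : IsConj a (x ^ k)) :
    x ^ 8 = 1 := by
  have h1 := h.pow 2
  rw [ha] at h1
  have h2 := isConj_one_right.1 h1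
  rw [← hk, pow_mul, pow_mul, h2, one_pow]

theorem W0_sq' : W0 ^ 2 = 1 := by rw [pow_two, W0_sq]

/-- predicates on codes -/
def g2B (i n : ℕ) : Bool := (m2B i).testBit n
def g2A (i n : ℕ) : Bool := (m2A i).testBit n
def gSqA (i n : ℕ) : Bool := bif Nat.blt i 4 then (m2A 0).testBit (s2 (LT i) (pp i) n) else false
def gFourA (i n : ℕ) : Bool :=
  bif Nat.blt i 4 then (m2A 0).testBit (sq (s2 (LT i) (pp i) n)) else (m2A 0).testBit (s4 LC 264 n)
def gSqB (i n : ℕ) : Bool :=
  bif Nat.blt i 4 then (m2B 0).testBit (s2 (LT i) (pp i) n) else (m2B 3).testBit (nmul n (app LC n))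
def gFourB (i n : ℕ) : Bool :=
  bif Nat.blt i 4 then (m2B 0).testBit (sq (s2 (LT i) (pp i) n)) else (m2B 0).testBit (s4 LC 264 n)

theorem c2B : sumN 5 (fun i => Nat.mul (cls i) (sumN 512 fun n => b2n (g2B i n))) = 8311 := by decide +kernel
theorem c2A : sumN 5 (fun i => Nat.mul (cls i) (sumN 512 fun n => b2n (g2A i n))) = 1080 := by decide +kernel
theorem cSqA : sumN 5 (fun i => Nat.mul (cls i) (sumN 512 fun n => b2n (gSqA i n))) = 48000 := by decide +kernel
theorem cFourA : sumN 5 (fun i => Nat.mul (cls i) (sumN 512 fun n => b2n (gFourA i n))) = 230400 := by decide +kernel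
theorem cSqB : sumN 5 (fun i => Nat.mul (cls i) (sumN 512 fun n => b2n (gSqB i n))) = 162000 := by decide +kernel
theorem cFourB : sumN 5 (fun i => Nat.mul (cls i) (sumN 512 fun n => b2n (gFourB i n))) = 172800 := by decide +kernel

theorem n2B : Nat.card {x : PP // IsConj W0 (x : Cfsg.Spor.HN)} = 8311 := by
  rw [← c2B]
  exact count_PP (fun x => IsConj W0 x) (fun c _ x => isConj_conj_iff c)
    (fun x hx => pow_eight_of_conj (k := 1) (l := 4) W0_sq' rfl (by rw [pow_one]; exact hx)) g2B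
    (fun i hi n hn => is2B hi hn)

theorem n2A : Nat.card {x : PP // IsConj tA (x : Cfsg.Spor.HN)} = 1080 := by
  rw [← c2A]
  exact count_PP (fun x => IsConj tA x) (fun c _ x => isConj_conj_iff c)
    (fun x hx => pow_eight_of_conj (k := 1) (l := 4) tA_sq rfl (by rw [pow_one]; exact hx)) g2A
    (fun i hi n hn => is2A hi hn)

theorem is2A_code {n : ℕ} (hn : n < 512) : IsConj tA (ι W0 bx n) ↔ (m2A 0).testBit n = true := by
  have h := is2A (i := 0) (by norm_num) hn
  have h1 : wv (rp 0) = 1 := rfl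
  rw [h1, mul_one] at h
  exact h

theorem is2B_code {n : ℕ} (hn : n < 512) : IsConj W0 (ι W0 bx n) ↔ (m2B 0).testBit n = true := by
  have h := is2B (i := 0) (by norm_num) hn
  have h1 : wv (rp 0) = 1 := rfl
  rw [h1, mul_one] at h
  exact h

theorem sC_lt {n : ℕ} (hn : n < 512) : nmul n (app LC n) < 512 := blt_of bound_sC hn

theorem blt4 {i : ℕ} (h : i < 4) : Nat.blt i 4 = true := by simpa using h

theorem four_i {i : ℕ} (hi : i < 4) (n : ℕ) : (ι W0 bx n * wv (rp i)) ^ 4 = ι W0 bx (sq (s2 (LT i) (pp i) n)) := by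
  rw [pow4, sq_i hi, ι_sq]

theorem nSqA : Nat.card {x : PP // IsConj tA ((x : Cfsg.Spor.HN) ^ 2)} = 48000 := by
  rw [← cSqA]
  refine count_PP (fun x => IsConj tA (x ^ 2)) (fun c _ x => by rw [conj_pow]; exact isConj_conj_iff c)
    (fun x hx => pow_eight_of_conj (k := 2) (l := 2) tA_sq rfl hx) gSqA (fun i hi n hn => ?_)
  unfold gSqA
  rcases Nat.lt_or_ge i 4 with h | h
  · rw [blt4 h, cond_true, sq_i h]
    exact is2A_code (s2_lt h hn)
  · obtain rfl : i = 4 := by omega
    rw [show Nat.blt 4 4 = false from rfl, cond_false, sq_4]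
    rw [is2A (i := 3) (by norm_num) (sC_lt hn)]
    have h1 : (m2A 3).testBit (nmul n (app LC n)) = false := Nat.zero_testBit _
    rw [h1]

theorem nSqB : Nat.card {x : PP // IsConj W0 ((x : Cfsg.Spor.HN) ^ 2)} = 162000 := by
  rw [← cSqB]
  refine count_PP (fun x => IsConj W0 (x ^ 2)) (fun c _ x => by rw [conj_pow]; exact isConj_conj_iff c)
    (fun x hx => pow_eight_of_conj (k := 2) (l := 2) W0_sq' rfl hx) gSqB (fun i hi n hn => ?_)
  unfold gSqB
  rcases Nat.lt_or_ge i 4 with h | h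
  · rw [blt4 h, cond_true, sq_i h]
    exact is2B_code (s2_lt h hn)
  · obtain rfl : i = 4 := by omega
    rw [show Nat.blt 4 4 = false from rfl, cond_false, sq_4]
    exact is2B (i := 3) (by norm_num) (sC_lt hn)

theorem nFourA : Nat.card {x : PP // IsConj tA ((x : Cfsg.Spor.HN) ^ 4)} = 230400 := by
  rw [← cFourA]
  refine count_PP (fun x => IsConj tA (x ^ 4)) (fun c _ x => by rw [conj_pow]; exact isConj_conj_iff c)
    (fun x hx => pow_eight_of_conj (k := 4) (l := 1) tA_sq rfl hx) gFourA (fun i hi n hn => ?_)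
  unfold gFourA
  rcases Nat.lt_or_ge i 4 with h | h
  · rw [blt4 h, cond_true, four_i h]
    exact is2A_code (sq_lt _)
  · obtain rfl : i = 4 := by omega
    rw [show Nat.blt 4 4 = false from rfl, cond_false, four_4]
    exact is2A_code (blt_of boundC hn)

theorem nFourB : Nat.card {x : PP // IsConj W0 ((x : Cfsg.Spor.HN) ^ 4)} = 172800 := by
  rw [← cFourB]
  refine count_PP (fun x => IsConj W0 (x ^ 4)) (fun c _ x => by rw [conj_pow]; exact isConj_conj_iff c)
    (fun x hx => pow_eight_of_conj (k := 4) (l := 1) W0_sq' rfl hx) gFourB (fun i hi n hn => ?_)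
  unfold gFourB
  rcases Nat.lt_or_ge i 4 with h | h
  · rw [blt4 h, cond_true, four_i h]
    exact is2B_code (sq_lt _)
  · obtain rfl : i = 4 := by omega
    rw [show Nat.blt 4 4 = false from rfl, cond_false, four_4]
    exact is2B_code (blt_of boundC hn)

end Cfsg.Agent.H653.HNE
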