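import Cfsg.Agent.H653.HNE.Inv

/-!
# Classes of the involutions of `C(W0)` in the Harada-Norton group (helper653)
-/

set_option autoImplicit false
set_option maxRecDepth 100000

namespace Cfsg.Agent.H653.HNE

open Subgroup
open Cfsg.Agent.HN.XWords Cfsg.Agent.HN.XStruct Cfsg.Agent.KFacts.HN
open Cfsg.Agent.HN.P1408 (eqw)
open Cfsg.Agent.ThType.CSideModel (pw Basis ι lo hi par4 nmul img ι_nmul ι_zero ι_z ι_gen)
open Cfsg.Agent.ThType.CSideWords (ninv ι_ninv ι_congr)

/-! ### representatives -/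

theorem repI1 : IsConj tA (ι W0 bx 1) := by
  have h : ι W0 bx 1 = tA := by
    rw [tA_V, ι_code (n := 1) (l := [0]) (by decide +kernel), ← V_qws]
    exact V_eq (by decide +kernel)
  rw [h]

theorem repI2 : IsConj W0 (ι W0 bx 3) := by
  have h : ι W0 bx 3 = V (qw 0 ++ qw 1) := by
    rw [ι_code (n := 3) (l := [0, 1]) (by decide +kernel), ← V_qws]
    rfl
  rw [h, W0_eq, ← V_hw (by decide +kernel)]
  exact Cfsg.Agent.HN.NormalH.ψ.map_isConj conj_r3

theorem repS1 : IsConj tA (ι W0 bx 110 * wv yS) := by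
  have h : ι W0 bx 110 * wv yS = Cfsg.Agent.KFacts.HN.Classes.x3 := by
    rw [Cfsg.Agent.KFacts.HN.Classes.x3_nf, ι_code (n := 110) (l := [2, 3, 4, 6]) (by decide +kernel),
      wv_Γ (by decide)]
    congr 1
  rw [h]
  exact Cfsg.Agent.KFacts.HN.Classes.isConj_x3

theorem conj_d : IsConj W0 (Cfsg.Agent.HN.NormalH.ψ Cfsg.Agent.HN.Syl.d) := by
  have h1 := Cfsg.Agent.HN.NormalH.ψ.map_isConj conj_x2
  rw [V_hw (by decide +kernel)] at h1
  exact (Cfsg.Agent.KFacts.HN.YTrick.isConj_x2).trans h1.symm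

theorem repS2 : IsConj W0 (ι W0 bx 366 * wv yS) := by
  have h : ι W0 bx 366 * wv yS = V (x3w ++ w0w) := by
    have h1 : ι W0 bx 366 = W0 * ι W0 bx 110 := by
      have h4 := ι_nmul basis 256 110
      rw [ι_z] at h4
      exact h4
    have h2 : ι W0 bx 110 * wv yS = Cfsg.Agent.KFacts.HN.Classes.x3 := by
      rw [Cfsg.Agent.KFacts.HN.Classes.x3_nf, ι_code (n := 110) (l := [2, 3, 4, 6]) (by decide +kernel),
        wv_Γ (by decide)]
      congr 1
    rw [h1, mul_assoc, h2, V_append, ← Cfsg.Agent.KFacts.HN.Classes.x3_comm]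
    rfl
  have h3 := Cfsg.Agent.HN.NormalH.ψ.map_isConj conj_ew
  rw [V_hw (by decide +kernel)] at h3
  rw [h]
  exact conj_d.trans h3

theorem repB1 : IsConj W0 (ι W0 bx 110 * wv yB) := by
  have h : V (ew [0, 0, 1, 1]) * V x2w = ι W0 bx 110 * wv yB * V (ew [0, 0, 1, 1]) := by
    rw [ι_code (n := 110) (l := [1, 0, 2, 0, 4, 6, 1, 3]) (by decide +kernel), wv_Γ (w := yB) (by decide), ← V_qws,
      ← V_ew, ← V_append, ← V_append, ← V_append]
    exact V_eq (by decide +kernel)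
  have h1 : V (ew [0, 0, 1, 1]) * V x2w * (V (ew [0, 0, 1, 1]))⁻¹ = ι W0 bx 110 * wv yB := by
    rw [h, mul_inv_cancel_right]
  exact (Cfsg.Agent.KFacts.HN.YTrick.isConj_x2).trans (isConj_iff.2 ⟨_, h1⟩)

/-! ### orbits -/

theorem isConj_of_orbit {x a b : Cfsg.Spor.HN} (h : ∃ c ∈ PP, c * a * c⁻¹ = b) (hx : IsConj x a) : IsConj x b := by
  obtain ⟨c, -, hc⟩ := h
  exact hx.trans (isConj_iff.2 ⟨c, hc⟩)

theorem gens0 {y : Cfsg.Spor.HN} : ∀ g ∈ ([] : List (List ℕ × ℕ)), ∃ c : Cfsg.Spor.HN, Act c g.1 ∧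
    c * y * c⁻¹ = ι W0 bx g.2 * y := fun _ h => absurd h List.not_mem_nil

theorem clsI1 {n : ℕ} (hn : n < 512) (h : MI1.testBit n = true) : IsConj tA (ι W0 bx n) := by
  have h1 := orbit actI gI0 gensI orbI1 hn h
  rw [wv_yI, mul_one, mul_one] at h1
  exact isConj_of_orbit h1 repI1

theorem clsI2 {n : ℕ} (hn : n < 512) (h : MI2.testBit n = true) : IsConj W0 (ι W0 bx n) := by
  have h1 := orbit actI gI0 gensI orbI2 hn h
  rw [wv_yI, mul_one, mul_one] at h1
  exact isConj_of_orbit h1 repI2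

theorem clsS1 {n : ℕ} (hn : n < 512) (h : MS1.testBit n = true) : IsConj tA (ι W0 bx n * wv yS) := by
  have h1 := orbit actS [] gens0 orbS1 hn h
  have h2 := orbit actS [] gens0 orbS1 (n := 110) (by norm_num) (by decide +kernel)
  obtain ⟨c, hc, h2⟩ := h2
  have h3 : IsConj (ι W0 bx 6 * wv yS) (ι W0 bx 110 * wv yS) := isConj_iff.2 ⟨c, h2⟩
  exact isConj_of_orbit h1 (repS1.trans h3.symm)

theorem clsS2 {n : ℕ} (hn : n < 512) (h : MS2.testBit n = true) : IsConj W0 (ι W0 bx n * wv yS) := by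
  have h1 := orbit actS [] gens0 orbS2 hn h
  have h2 := orbit actS [] gens0 orbS2 (n := 366) (by norm_num) (by decide +kernel)
  obtain ⟨c, hc, h2⟩ := h2
  have h3 : IsConj (ι W0 bx 46 * wv yS) (ι W0 bx 366 * wv yS) := isConj_iff.2 ⟨c, h2⟩
  exact isConj_of_orbit h1 (repS2.trans h3.symm)

theorem clsB1 {n : ℕ} (hn : n < 512) (h : MB1.testBit n = true) : IsConj W0 (ι W0 bx n * wv yB) := by
  have h1 := orbit actB [] gens0 orbB1 hn h
  have h2 := orbit actB [] gens0 orbB1 (n := 110) (by norm_num) (by decide +kernel)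
  obtain ⟨c, hc, h2⟩ := h2
  have h3 : IsConj (ι W0 bx 6 * wv yB) (ι W0 bx 110 * wv yB) := isConj_iff.2 ⟨c, h2⟩
  exact isConj_of_orbit h1 (repB1.trans h3.symm)

/-! ### the five cosets -/

/-- tables of the representatives -/
def LT (i : ℕ) : List ℕ :=
  match i with
  | 0 => LI'
  | 1 => LA
  | 2 => LS
  | 3 => LB
  | _ => LC

/-- codes of the squares of the first four representatives -/
def pp (i : ℕ) : ℕ :=
  match i with
  | 0 => 0
  | 1 => 256
  | 2 => 105
  | _ => 264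

/-- codes of 2A involutions -/
def m2A (i : ℕ) : ℕ :=
  match i with
  | 0 => MI1
  | 2 => MS1
  | _ => 0

/-- codes of 2B involutions -/
def m2B (i : ℕ) : ℕ :=
  match i with
  | 0 => Nat.lor MI2 (Nat.shiftLeft 1 256)
  | 2 => MS2
  | 3 => MB1
  | _ => 0

theorem act_rp {i : ℕ} (hi : i < 5) : Act (wv (rp i)) (LT i) := by
  interval_cases i
  · exact actI
  · exact actA
  · exact actS
  · exact actB
  · exact actC

theorem sq_rp {i : ℕ} (hi : i < 4) : wv (rp i) ^ 2 = ι W0 bx (pp i) := by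
  interval_cases i
  · change wv yI ^ 2 = ι W0 bx 0
    rw [wv_yI, one_pow, ι_zero]
  · exact wv_yA_sq
  · exact wv_yS_sq
  · exact wv_yB_sq

theorem sq_i {i : ℕ} (hi : i < 4) (n : ℕ) : (ι W0 bx n * wv (rp i)) ^ 2 = ι W0 bx (s2 (LT i) (pp i) n) :=
  sq_coset (act_rp (by omega)) (sq_rp hi) n

theorem sq_4 (n : ℕ) : (ι W0 bx n * wv (rp 4)) ^ 2 = ι W0 bx (nmul n (app LC n)) * wv (rp 3) := by
  have h : wv (rp 3) = wv (rp 4) * wv (rp 4) := by rw [← wv_app]; rfl
  rw [ι_nmul basis, ← actC.conj basis n, h, pow_two]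
  change _ = ι W0 bx n * (wv (rp 4) * ι W0 bx n * (wv (rp 4))⁻¹) * (wv (rp 4) * wv (rp 4))
  group

theorem four_4 (n : ℕ) : (ι W0 bx n * wv (rp 4)) ^ 4 = ι W0 bx (s4 LC 264 n) :=
  four_coset actC wv_yC_four n

theorem bound_s2 : allN 4 (fun i => allN 512 fun n => Nat.blt (s2 (LT i) (pp i) n) 512) = true := by decide +kernel
theorem bound_sC : allN 512 (fun n => Nat.blt (nmul n (app LC n)) 512) = true := by decide +kernel

theorem s2_lt {i n : ℕ} (hi : i < 4) (hn : n < 512) : s2 (LT i) (pp i) n < 512 :=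
  blt_of ((allN_iff _ _).1 bound_s2 i hi) hn

theorem tA_sq : tA ^ 2 = 1 := by
  rw [tA_V, pow_two, ← V_append, ← V_nil]
  exact V_eq (by decide +kernel)

theorem tA_ne : tA ≠ 1 := by
  intro h
  have h1 := Cfsg.Agent.KFacts.HN.Classes.card_centralizer_τ
  have h2 : (centralizer ({tA} : Set Cfsg.Spor.HN)) = ⊤ := by
    rw [h, eq_top_iff]
    intro g _
    rw [mem_centralizer_singleton_iff, one_mul, mul_one]
  have h3 : Nat.card (centralizer ({tA} : Set Cfsg.Spor.HN)) = 177408000 := h1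
  rw [h2, Subgroup.card_top, Cfsg.Agent.KFacts.HN.Classes.card_HN] at h3
  omega

theorem not_tA_W0 : ¬ IsConj tA W0 := Cfsg.Agent.KFacts.HN.Classes.not_isConj

theorem masks_cover : allN 4 (fun i => allN 512 fun n => or (not (Nat.beq (s2 (LT i) (pp i) n) 0))
    (or (and (Nat.beq i 0) (Nat.beq n 0)) (or ((m2A i).testBit n) ((m2B i).testBit n)))) = true := by
  decide +kernel

theorem m2A_sound {i n : ℕ} (hi : i < 5) (hn : n < 512) (h : (m2A i).testBit n = true) :
    IsConj tA (ι W0 bx n * wv (rp i)) := by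
  interval_cases i
  · have h1 := clsI1 hn h
    change IsConj tA (ι W0 bx n * 1)
    rwa [mul_one]
  · exact absurd h (by simp [m2A])
  · exact clsS1 hn h
  · exact absurd h (by simp [m2A])
  · exact absurd h (by simp [m2A])

theorem m2B_sound {i n : ℕ} (hi : i < 5) (hn : n < 512) (h : (m2B i).testBit n = true) :
    IsConj W0 (ι W0 bx n * wv (rp i)) := by
  interval_cases i
  · change IsConj W0 (ι W0 bx n * 1)
    rw [mul_one]
    have h1 : (MI2 ||| (1 <<< 256)).testBit n = true := h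
    rw [Nat.testBit_or, Bool.or_eq_true] at h1
    rcases h1 with h1 | h1
    · exact clsI2 hn h1
    · have h2 : n = 256 := by
        rw [Nat.one_shiftLeft, Nat.testBit_two_pow] at h1
        exact (of_decide_eq_true h1).symm
      rw [h2, ι_z]
  · exact absurd h (by simp [m2B])
  · exact clsS2 hn h
  · exact clsB1 hn h
  · exact absurd h (by simp [m2B])

/-- an involution in a coset is not in the last coset -/
theorem sq_4_ne (n : ℕ) : (ι W0 bx n * wv (rp 4)) ^ 2 ≠ 1 := by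
  intro h
  rw [sq_4] at h
  have h1 : wv (rp 3) ∈ RS := by
    rw [mul_eq_one_iff_inv_eq] at h
    rw [← h]
    exact RS.inv_mem (ι_mem _)
  have h2 := (mem_RS_iff (wv_mem (rp 3))).1 h1
  rw [ρ_wv (by decide), ← e_nil, e_eq_iff] at h2
  exact absurd h2 (by decide +kernel)

theorem one_of_code {n : ℕ} (hn : n < 512) (h : ι W0 bx n = 1) : n = 0 :=
  ι_inj hn (by norm_num) (h.trans ι_zero.symm)

/-- an involution in a coset has a code in a mask -/
theorem cover {i n : ℕ} (hi : i < 5) (hn : n < 512) (h : (ι W0 bx n * wv (rp i)) ^ 2 = 1)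
    (h1 : ι W0 bx n * wv (rp i) ≠ 1) : (m2A i).testBit n = true ∨ (m2B i).testBit n = true := by
  rcases Nat.lt_or_ge i 4 with h4 | h4
  · rw [sq_i h4] at h
    have h2 := one_of_code (s2_lt h4 hn) h
    have h3 := (allN_iff _ _).1 ((allN_iff _ _).1 masks_cover i h4) n hn
    rw [h2, Nat.beq_refl, Bool.not_true, Bool.false_or, Bool.or_eq_true, Bool.or_eq_true, Bool.and_eq_true,
      Nat.beq_eq, Nat.beq_eq] at h3
    rcases h3 with ⟨h5, h6⟩ | h3
    · exfalso
      apply h1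
      rw [h5, h6, ι_zero]
      rfl
    · exact h3
  · obtain rfl : i = 4 := by omega
    exact absurd h (sq_4_ne n)

theorem is2A {i n : ℕ} (hi : i < 5) (hn : n < 512) :
    IsConj tA (ι W0 bx n * wv (rp i)) ↔ (m2A i).testBit n = true := by
  refine ⟨fun h => ?_, m2A_sound hi hn⟩
  have h1 : (ι W0 bx n * wv (rp i)) ^ 2 = 1 := by
    have h2 := h.pow 2
    rw [tA_sq] at h2
    exact isConj_one_right.1 h2
  have h2 : ι W0 bx n * wv (rp i) ≠ 1 := by
    intro h3
    rw [h3] at h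
    exact tA_ne (isConj_one_left.1 h)
  rcases cover hi hn h1 h2 with h3 | h3
  · exact h3
  · exact absurd (h.trans (m2B_sound hi hn h3).symm) not_tA_W0

theorem is2B {i n : ℕ} (hi : i < 5) (hn : n < 512) :
    IsConj W0 (ι W0 bx n * wv (rp i)) ↔ (m2B i).testBit n = true := by
  refine ⟨fun h => ?_, m2B_sound hi hn⟩
  have h1 : (ι W0 bx n * wv (rp i)) ^ 2 = 1 := by
    have h2 := h.pow 2
    rw [pow_two W0, W0_sq] at h2
    exact isConj_one_right.1 h2
  have h2 : ι W0 bx n * wv (rp i) ≠ 1 := by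
    intro h3
    rw [h3] at h
    exact W0_ne (isConj_one_left.1 h)
  rcases cover hi hn h1 h2 with h3 | h3
  · exact absurd ((m2A_sound hi hn h3).trans h.symm) not_tA_W0
  · exact h3

end Cfsg.Agent.H653.HNE
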