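import Cfsg.Agent.H653.HNE.Lq

/-!
# Sizes of the classes of 2-elements of `(A5 × A5).2`, Harada-Norton group (helper653)
-/

set_option autoImplicit false
set_option maxRecDepth 100000

namespace Cfsg.Agent.H653.HNE

open Subgroup
open Cfsg.Agent.HN.XStruct Cfsg.Agent.KFacts.HN Cfsg.Agent.HN.XMat Cfsg.Agent.HN.XInst

def WS : List (List ℕ) := [
  [0, 1, 0, 1, 1], [1, 0, 1, 1, 0], [0, 2, 0, 2, 0, 0, 2, 1], [2, 2, 0, 1, 0, 1, 1, 2],
  [1, 0, 1, 0, 0, 1, 0], [0, 1, 1, 0, 1], [2, 2, 1, 0, 1, 1, 0, 2], [1, 1, 0, 1, 0],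
  [0, 2, 0, 0, 2, 1, 0, 2], [0, 1, 0, 2, 2, 1, 0, 0, 2, 1], [2, 0, 0, 2, 1, 0, 2, 0], [2, 0, 1, 0, 2, 1, 1],
  [0, 1, 0, 0, 1, 0, 1], [2, 1, 0, 1, 0, 0, 1, 0], [1, 0, 1, 0, 1, 0], [0, 2, 1, 0, 1, 2, 1, 2, 2],
  [1, 0, 0, 2, 1, 0, 1, 2, 0], [2, 1, 0, 1, 1, 0, 2, 2], [1, 0, 1, 0, 1], [1, 1, 2, 0, 1, 0, 2],
  [0, 0, 2, 1, 0, 2, 0, 2], [0, 1, 2, 0, 1, 0, 1, 2], [2, 0, 0, 1, 2, 0, 2, 0, 2], [2, 2, 1, 0, 1, 0, 1, 2],
  [1, 2, 0, 1, 0, 1, 2, 0], [1, 2, 2, 1, 2, 2, 1, 2, 2], [0, 1, 0, 1, 2, 0, 1, 2], [0, 0, 2, 0, 0, 1, 0, 1, 1],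
  [0, 1, 0, 0, 1, 0, 2, 2, 1], [1, 0, 1, 0, 0, 1, 0, 2], [0, 1, 0, 1, 0, 1], [1, 0, 1, 2, 0, 1, 2, 0],
  [2, 1, 2, 1, 2, 1], [0, 1, 0, 1, 1, 0, 0, 2, 0], [1, 1, 1, 2, 1, 2, 2, 1, 2], [0, 0, 2, 1, 0, 1, 2, 0, 1],
  [0, 1, 0, 2, 1, 0, 1, 0], [1, 2, 0, 1, 0, 2, 1], [0, 2, 1, 0, 2, 0, 2, 0], [2, 1, 0, 1, 0, 1, 2, 2],
  [1, 0, 0, 1, 0, 2, 1, 0], [0, 0, 1, 2, 0, 2, 0, 2, 2], [0, 2, 0, 0, 2, 2, 1, 2, 0], [1, 2, 1, 2, 1, 2],
  [1, 0, 0, 1, 0, 2, 2, 1, 0], [0, 1, 1, 2, 1, 2, 0, 2, 2], [0, 2, 1, 0, 1, 0, 0, 1], [1, 2, 1, 1, 0, 2, 0, 2],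
  [0, 1, 0, 0, 1, 0, 2, 1], [0, 1, 2, 0, 1, 2, 0, 1], [1, 1, 0, 2, 0, 2, 1, 2], [0, 1, 0, 2, 2, 1, 0, 1, 0],
  [0, 0, 2, 0, 0, 2, 2, 1, 2], [1, 0, 2, 1, 0, 1, 0, 0], [0, 0, 1, 0, 2, 2, 1, 0, 1], [1, 2, 0, 1, 2, 0, 1, 0],
  [2, 1, 1, 0, 2, 0, 2, 1], [0, 0, 1, 0, 2, 1, 0, 1], [1, 0, 2, 0, 2, 1, 2, 1], [0, 0, 2, 2, 1, 2, 0, 0, 2]]

def MSS : List ℕ := [
  15067646097058310657, 9818141049469610241, 11171778497756734465, 17493339840269681523,
  11191765100753388033, 17807303304410304513, 5985551363098117204, 11186947296067659265,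
  7170859751933419558, 9825333350172832382, 11235963910673643373, 12009619141553331827,
  13853183573336789505, 9390042678269379076, 16430574360818952705, 11218106079351212562,
  17843462977679985426, 7585392461439342676, 9961997947256449281, 6225418235246879268,
  11179335862409932414, 990269575407083814, 13853281365602339088, 7358953207024092257,
  16473680044179237485, 9962008627054031435, 1098884882576450340, 6420454914380709476,
  4011138333646134024, 3338335076634329605, 9756239429634359809, 14213471818945233732,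
  11187115269820168026, 14807393189429224037, 15067875643737549402, 11818888331197193796,
  7984839955575056247, 9388633741822788138, 11191922266396166160, 6791464447635658849,
  3975061128468830986, 6413489832492836160, 3372924250018677289, 11171848550998388299,
  16942905771158346251, 12349164538274120234, 10682549330970196033, 11973384424476771616,
  15906260953952033289, 8122840174144258306, 5983912463282865185, 10855279006531631734,
  5162571146857939202, 11197279121545495066, 17871684122896801872, 3529169129709634089,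
  11861923654547801378, 7950180473497500753, 7394953101138068515, 2053285222951682587]

def VS : List (List ℕ) := [
  [], [0], [1], [2],
  [0, 0], [0, 1], [0, 2], [1, 1],
  [1, 2], [2, 0], [2, 1], [2, 2],
  [0, 0, 1], [0, 0, 2], [0, 1, 1], [0, 2, 0],
  [0, 2, 1], [0, 2, 2], [1, 1, 1], [1, 1, 2],
  [1, 2, 1], [1, 2, 2], [2, 0, 0], [2, 0, 1],
  [2, 0, 2], [2, 1, 0], [2, 1, 1], [0, 0, 2, 0],
  [0, 0, 2, 1], [0, 0, 2, 2], [0, 1, 1, 1], [0, 1, 1, 2],
  [0, 2, 0, 0], [0, 2, 0, 2], [0, 2, 1, 0], [0, 2, 1, 1],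
  [0, 2, 1, 2], [1, 1, 2, 1], [1, 2, 1, 0], [1, 2, 1, 1],
  [1, 2, 1, 2], [2, 0, 0, 2], [2, 0, 1, 1], [2, 0, 2, 0],
  [2, 0, 2, 2], [2, 1, 1, 1], [0, 0, 2, 0, 0], [0, 0, 2, 0, 1],
  [0, 0, 2, 2, 1], [0, 1, 1, 2, 1], [0, 2, 0, 2, 1], [0, 2, 0, 2, 2],
  [0, 2, 1, 1, 1], [0, 2, 1, 2, 0], [1, 2, 1, 0, 2], [1, 2, 1, 1, 1],
  [1, 2, 1, 2, 0], [1, 2, 1, 2, 1], [2, 0, 2, 2, 0], [2, 1, 1, 1, 2]]

theorem MSS_eq : WS.map mw = MSS := by decide +kernel
theorem MSS_nodup : MSS.Nodup := by decide +kernel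
theorem WS_conj : ∀ i < 60, mw (VS.getD i [] ++ WS.getD i []) = mw (rp 2 ++ VS.getD i []) := by decide +kernel

theorem MSS_clo : allL [0, 1, 2] (fun g => allL MSS fun M => force (mul (mul (gen g) M) (GI.getD g 0)) fun M' =>
    and (Nat.beq (mul M' (gen g)) (mul (gen g) M)) (anyL MSS fun D => Nat.beq M' D)) = true := by decide +kernel

theorem WS_clo {g : ℕ} (hg : g < 3) {w : List ℕ} (hw : w ∈ WS) : ∃ u ∈ WS, e [g] * e w * (e [g])⁻¹ = e u := by
  have h1 : mw w ∈ MSS := by rw [← MSS_eq]; exact List.mem_map_of_mem hw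
  have hg' : g ∈ [0, 1, 2] := by
    interval_cases g <;> simp
  have h3 := (allL_iff _ _).1 ((allL_iff _ _).1 MSS_clo _ hg') _ h1
  rw [force_eq, Bool.and_eq_true, anyL_iff, Nat.beq_eq] at h3
  obtain ⟨h3, D, hD, h4⟩ := h3
  rw [Nat.beq_eq] at h4
  rw [h4] at h3
  rw [← MSS_eq, List.mem_map] at hD
  obtain ⟨u, hu, rfl⟩ := hD
  refine ⟨u, hu, ?_⟩
  rw [mul_inv_eq_iff_eq_mul, ← e_append, ← e_append]
  exact e_eq (by rw [mw_app, mw_app, mw_gen g hg, h3])

theorem WS_clo' (v : List ℕ) {w : List ℕ} (hw : w ∈ WS) : ∃ u ∈ WS, e v * e w * (e v)⁻¹ = e u := by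
  induction v with
  | nil => exact ⟨w, hw, by rw [e_nil]; group⟩
  | cons g v ih =>
    obtain ⟨u, hu, h⟩ := ih
    have h1 : e (g :: v) = e [g] * e v := e_append [g] v
    have h2 : e (g :: v) * e w * (e (g :: v))⁻¹ = e [g] * e u * (e [g])⁻¹ := by
      rw [h1, ← h]; group
    rw [h2]
    rcases Nat.lt_or_ge g 2 with hg | hg
    · exact WS_clo (by omega) hu
    · rw [e_ge g hg]
      exact WS_clo (by norm_num) hu

theorem rp2_mem : ∃ u ∈ WS, mw (rp 2) = mw u := by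
  have h1 : mw (rp 2) ∈ MSS := by decide +kernel
  rw [← MSS_eq, List.mem_map] at h1
  obtain ⟨u, hu, h⟩ := h1
  exact ⟨u, hu, h.symm⟩

theorem card_conj_S : Nat.card {z : Lq // IsConj (e (rp 2)) z} = 60 := by
  apply le_antisymm
  · have h : Nat.card (SL WS) = 60 := by
      rw [card_SL (by rw [MSS_eq]; exact MSS_nodup)]; rfl
    rw [← h]
    refine Nat.card_le_card_of_injective (fun z : {z : Lq // IsConj (e (rp 2)) z} => (⟨z.1, ?_⟩ : SL WS)) ?_
    · obtain ⟨c, hc⟩ := isConj_iff.1 z.2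
      obtain ⟨v, rfl⟩ := exists_word c
      obtain ⟨u, hu, h1⟩ := rp2_mem
      obtain ⟨t, ht, h2⟩ := WS_clo' v hu
      refine ⟨t, ht, ?_⟩
      rw [← e_eq h1] at h2
      rw [← h2]
      exact hc.symm
    · intro a b hab
      have h1 : a.1 = b.1 := congrArg (fun t : SL WS => t.1) hab
      exact Subtype.ext h1
  · exact le_conj (W := WS) (V := VS) (by rw [MSS_eq]; exact MSS_nodup) WS_conj

theorem card_conj_B : Nat.card {z : Lq // IsConj (e (rp 3)) z} = 225 := by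
  have h := card_conj (e (rp 3))
  rw [card_cent_B, card_Lq] at h
  omega

theorem card_conj_I : Nat.card {z : Lq // IsConj (e (rp 0)) z} = 1 := by
  have h : ∀ z : {z : Lq // IsConj (e (rp 0)) z}, z.1 = 1 := by
    rintro ⟨z, hz⟩
    have h1 : IsConj (1 : Lq) z := by rw [← e_nil]; exact hz
    exact isConj_one_right.1 h1
  rw [Nat.card_eq_one_iff_unique]
  exact ⟨⟨fun a b => Subtype.ext ((h a).trans (h b).symm)⟩, ⟨⟨_, IsConj.refl _⟩⟩⟩

theorem TT_eq : TT = centralizer ({e (rp 3)} : Set Lq) := by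
  apply Subgroup.eq_of_le_of_card_ge TT_le
  rw [card_TT, card_cent_B]

/-- the words commuting with `[1]` -/
def T8 : List (List ℕ) := TW.filter fun w => Nat.beq (mul (mw w) (mw [1])) (mul (mw [1]) (mw w))

theorem T8_length : T8.length = 8 := by decide +kernel
theorem T8_nodup : (T8.map mw).Nodup := by decide +kernel

theorem card_cent_C : Nat.card (centralizer ({e (rp 4)} : Set Lq)) = 8 := by
  have h : (centralizer ({e (rp 4)} : Set Lq) : Set Lq) = SL T8 := by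
    ext x
    rw [SetLike.mem_coe, mem_centralizer_singleton_iff]
    constructor
    · intro hx
      have h1 : x ∈ TT := by
        rw [TT_eq, mem_centralizer_singleton_iff]
        have h2 : e (rp 3) = e (rp 4) * e (rp 4) := by rw [← e_append]; rfl
        rw [h2, ← mul_assoc, hx, mul_assoc, hx, mul_assoc]
      obtain ⟨w, hw, rfl⟩ := h1
      refine ⟨w, ?_, rfl⟩
      unfold T8
      rw [List.mem_filter]
      refine ⟨hw, ?_⟩
      rw [← e_append, ← e_append, e_eq_iff, mw_app, mw_app] at hx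
      rw [Nat.beq_eq]
      exact hx
    · rintro ⟨w, hw, rfl⟩
      unfold T8 at hw
      rw [List.mem_filter, Nat.beq_eq] at hw
      rw [← e_append, ← e_append, e_eq_iff, mw_app, mw_app]
      exact hw.2
  have h1 : Nat.card (centralizer ({e (rp 4)} : Set Lq)) = Nat.card (SL T8) :=
    congrArg (fun s : Set Lq => Nat.card s) h
  rw [h1, card_SL T8_nodup, T8_length]

theorem card_conj_C : Nat.card {z : Lq // IsConj (e (rp 4)) z} = 900 := by
  have h := card_conj (e (rp 4))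
  rw [card_cent_C, card_Lq] at h
  omega

/-- the sizes of the classes -/
def cls (i : ℕ) : ℕ := [1, 30, 60, 225, 900].getD i 0

theorem card_cls {i : ℕ} (hi : i < 5) : Nat.card {z : Lq // IsConj (e (rp i)) z} = cls i := by
  interval_cases i
  · exact card_conj_I
  · exact card_conj_A
  · exact card_conj_S
  · exact card_conj_B
  · exact card_conj_C

/-- the representatives are not conjugate -/
theorem rp_inj {i j : ℕ} (hi : i < 5) (hj : j < 5) (h : IsConj (e (rp i)) (e (rp j))) : i = j := by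
  have h1 : cls i = cls j := by
    rw [← card_cls hi, ← card_cls hj]
    refine Nat.card_congr
      { toFun := fun z => ⟨z.1, h.symm.trans z.2⟩
        invFun := fun z => ⟨z.1, h.trans z.2⟩
        left_inv := fun _ => rfl
        right_inv := fun _ => rfl }
  interval_cases i <;> interval_cases j <;> first | rfl | exact absurd h1 (by decide)

end Cfsg.Agent.H653.HNE
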