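import Cfsg.Agent.KFacts.HN.Cards
import Cfsg.Agent.ThType.CSideWords

/-!
# A nine bit model of `O₂(C(W0))` in the Harada-Norton group (helper653)

Products of the generators `Q 0, …, Q 7` have a computable normal form `st`; `bx i` (`i < 8`) is a symplectic basis,
`ι W0 bx n` is the element with code `n < 512`.
-/

set_option autoImplicit false
set_option maxRecDepth 100000

namespace Cfsg.Agent.H653.HNE

open Cfsg.Agent.HN.XWords Cfsg.Agent.HN.XStruct Cfsg.Agent.KFacts.HN
open Cfsg.Agent.HN.XMat (row gen force force_eq)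
open Cfsg.Agent.ThType.CSideModel (pw Basis ι lo hi par4 nmul img ι_nmul ι_zero ι_z ι_gen)
open Cfsg.Agent.ThType.CSideWords (ninv ι_ninv ι_congr)

/-- bounded quantifier -/
def allN (n : ℕ) (p : ℕ → Bool) : Bool := Nat.rec true (fun i acc => and acc (p i)) n

theorem allN_iff (n : ℕ) (p : ℕ → Bool) : allN n p = true ↔ ∀ i < n, p i = true := by
  induction n with
  | zero => exact ⟨fun _ i hi => absurd hi (Nat.not_lt_zero i), fun _ => rfl⟩
  | succ n ih =>
    have h : allN (n + 1) p = (allN n p && p n) := rfl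
    rw [h, Bool.and_eq_true, ih]
    constructor
    · rintro ⟨h1, h2⟩ i hi
      rcases Nat.lt_succ_iff_lt_or_eq.1 hi with h3 | rfl
      · exact h1 i h3
      · exact h2
    · intro h1
      exact ⟨fun i hi => h1 i (Nat.lt_succ_of_lt hi), h1 n (Nat.lt_succ_self n)⟩

/-! ### Normal form of products -/

theorem evw_app {K : Type*} [Group K] (γ : ℕ → K) (v w : List ℕ) : evw γ (v ++ w) = evw γ v * evw γ w := by
  unfold evw; rw [List.map_append, List.prod_append]

/-- the sign of the left multiplication by `Q j` -/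
def lj (m j : ℕ) : Bool := Bool.xor (cnt m (Bm j) j) (m.testBit j && Nat.beq j 7)

theorem rr_flip {m j n : ℕ} (h : n ≤ j) : rr Q (m ^^^ 2 ^ j) n = rr Q m n := by
  induction n with
  | zero => rfl
  | succ n ih =>
    rw [rr_succ, rr_succ, ih (by omega), Nat.testBit_xor, Nat.testBit_two_pow]
    have : ¬ j = n := by omega
    simp [this]

theorem Q_rr {m j : ℕ} (hj : j < 8) : ∀ n, j < n → n ≤ 8 →
    Q j * rr Q m n = rr Q (m ^^^ 2 ^ j) n * sgn0 (lj m j) := by
  intro n
  induction n with
  | zero => intro h; omega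
  | succ n ih =>
    intro h1 h2
    rcases Nat.lt_or_ge j n with h3 | h3
    · rw [rr_succ, rr_succ, ← mul_assoc, ih h3 (by omega), Nat.testBit_xor, Nat.testBit_two_pow]
      have h4 : ¬ j = n := by omega
      simp only [h4, decide_false, Bool.xor_false]
      split
      · rw [mul_assoc, cws (by omega), ← mul_assoc]
      · rw [mul_one, mul_one]
    · obtain rfl : j = n := by omega
      rw [rr_succ, rr_succ, rr_flip le_rfl, Nat.testBit_xor, Nat.testBit_two_pow_self]
      have h4 := rr_comm m (j := j) (n := j) hj (by omega)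
      have h5 : Q j * rr Q m j = rr Q m j * Q j * sgn0 (cnt m (Bm j) j) := by
        have h6 : sgn0 (cnt m (Bm j) j) * sgn0 (cnt m (Bm j) j) = 1 := by rw [sgn0_mul, Bool.xor_self]; rfl
        calc Q j * rr Q m j = Q j * (rr Q m j * (sgn0 (cnt m (Bm j) j) * sgn0 (cnt m (Bm j) j))) := by
              rw [h6, mul_one]
          _ = Q j * (rr Q m j * sgn0 (cnt m (Bm j) j)) * sgn0 (cnt m (Bm j) j) := by group
          _ = rr Q m j * Q j * sgn0 (cnt m (Bm j) j) := by rw [← h4]
      unfold lj
      cases hb : m.testBit j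
      · simp only [Bool.false_and, Bool.xor_false, Bool.false_eq_true, if_false, mul_one, Bool.false_xor, if_true]
        exact h5
      · simp only [Bool.true_and, Bool.xor_self, Bool.false_eq_true, if_false, mul_one, if_true]
        rw [← mul_assoc, h5, mul_assoc, cws hj, mul_assoc, ← mul_assoc (Q j), ← sgn0_mul]
        have h7 : Q j * Q j = sgn0 (Nat.beq j 7) := by
          rcases Nat.lt_or_ge j 7 with h8 | h8
          · rw [Q_sq h8]
            have : Nat.beq j 7 = false := by
              rw [← Bool.not_eq_true, Nat.beq_eq]; omega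
            rw [this]; rfl
          · obtain rfl : j = 7 := by omega
            exact Q7_sq
        rw [h7, sgn0_mul, sgn0_mul, Bool.xor_comm]

/-- one step of the normal form -/
def stp (j m : ℕ) : ℕ := force m fun m => Nat.xor (Nat.xor m (Nat.shiftLeft 1 j)) (bif lj m j then 256 else 0)

/-- the normal form of a product -/
def st (l : List ℕ) : ℕ := List.rec 0 (fun j _ m => stp j m) l

/-- letters are small -/
def ok8 (l : List ℕ) : Bool := List.rec true (fun j _ b => and (Nat.blt j 8) b) l

theorem rr_high {m m' n : ℕ} (h : ∀ i < n, m.testBit i = m'.testBit i) : rr Q m n = rr Q m' n := by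
  induction n with
  | zero => rfl
  | succ n ih => rw [rr_succ, rr_succ, ih (fun i hi => h i (by omega)), h n (by omega)]

theorem st_eq {l : List ℕ} (h : ok8 l = true) : evw Q l = r Q (st l) * sgn0 ((st l).testBit 8) := by
  induction l with
  | nil =>
    rw [evw_nil]
    have : r Q (st []) = 1 := Bas.r_zero
    rw [this]
    exact (mul_one _).symm
  | cons j l ih =>
    have h1 : ok8 (j :: l) = (Nat.blt j 8 && ok8 l) := rfl
    rw [h1, Bool.and_eq_true] at h
    have hj : j < 8 := by simpa using h.1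
    have h2 : st (j :: l) = Nat.xor (Nat.xor (st l) (Nat.shiftLeft 1 j)) (bif lj (st l) j then 256 else 0) := by
      change stp j (st l) = _
      unfold stp
      rw [force_eq]
    have h3 : Nat.shiftLeft 1 j = 2 ^ j := Nat.one_shiftLeft j
    have h4 : ∀ i < 8, (st (j :: l)).testBit i = ((st l) ^^^ 2 ^ j).testBit i := by
      intro i hi
      rw [h2, h3]
      change (((st l) ^^^ 2 ^ j) ^^^ (bif lj (st l) j then 256 else 0)).testBit i = _
      rw [Nat.testBit_xor]
      have : (bif lj (st l) j then 256 else 0).testBit i = false := by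
        cases lj (st l) j
        · simp
        · rw [cond_true, show (256 : ℕ) = 2 ^ 8 by norm_num, Nat.testBit_two_pow]
          have : ¬ 8 = i := by omega
          simp [this]
      rw [this, Bool.xor_false]
    have h5 : (st (j :: l)).testBit 8 = Bool.xor ((st l).testBit 8) (lj (st l) j) := by
      rw [h2, h3]
      change (((st l) ^^^ 2 ^ j) ^^^ (bif lj (st l) j then 256 else 0)).testBit 8 = _
      rw [Nat.testBit_xor, Nat.testBit_xor, Nat.testBit_two_pow]
      have h6 : ¬ j = 8 := by omega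
      simp only [h6, decide_false, Bool.xor_false]
      congr 1
      cases lj (st l) j
      · simp
      · rw [cond_true, show (256 : ℕ) = 2 ^ 8 by norm_num, Nat.testBit_two_pow_self]
    rw [evw_cons, ih h.2, ← mul_assoc, h5]
    have h6 : Q j * r Q (st l) = r Q (st l ^^^ 2 ^ j) * sgn0 (lj (st l) j) := Q_rr hj 8 hj le_rfl
    have h7 : r Q (st (j :: l)) = r Q (st l ^^^ 2 ^ j) := rr_high h4
    rw [h6, h7, mul_assoc, sgn0_mul, Bool.xor_comm]

/-- equality of two products -/
def eqQ (l l' : List ℕ) : Bool := and (and (ok8 l) (ok8 l')) (Nat.beq (st l) (st l'))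

theorem Q_eq {l l' : List ℕ} (h : eqQ l l' = true) : evw Q l = evw Q l' := by
  unfold eqQ at h
  rw [Bool.and_eq_true, Bool.and_eq_true, Nat.beq_eq] at h
  rw [st_eq h.1.1, st_eq h.1.2, h.2]

theorem evw77 : evw Q [7, 7] = W0 := by
  rw [evw_cons, evw_cons, evw_nil, mul_one]
  exact Q7_sq

/-! ### The basis -/

/-- the words of the basis -/
def xwl : List (List ℕ) := [[0], [1], [0, 2], [0, 4], [0, 7], [6], [1, 3], [0, 5]]

/-- the word of `x i` -/
def xw (i : ℕ) : List ℕ := xwl.getD i []

/-- the elements of the basis -/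
def bx (i : Fin 8) : Cfsg.Spor.HN := evw Q (xw i)

/-- the word of the factor number `i` -/
def bw (n i : ℕ) : List ℕ := Bool.rec [] (xw i) (n.testBit i)

/-- the word of the element with code `n` -/
def wcode (n : ℕ) : List ℕ :=
  (Bool.rec [] [7, 7] (n.testBit 8) : List ℕ) ++ (bw n 0 ++ (bw n 1 ++ (bw n 2 ++ (bw n 3 ++ (bw n 4 ++ (bw n 5 ++
    (bw n 6 ++ bw n 7)))))))

theorem sq_check : allN 8 (fun i => eqQ (xw i ++ xw i) []) = true := by decide +kernel

theorem swap_check : allN 4 (fun i => eqQ (xw (i + 4) ++ xw i) ([7, 7] ++ (xw i ++ xw (i + 4)))) = true := by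
  decide +kernel

theorem comm_check : allN 8 (fun i => allN 8 fun j => or (or (Nat.beq (i + 4) j) (Nat.beq (j + 4) i))
    (eqQ (xw i ++ xw j) (xw j ++ xw i))) = true := by decide +kernel

theorem W0_evw {l : List ℕ} (h : ok8 l = true) : evw Q l * W0 = W0 * evw Q l := by
  rw [st_eq h, mul_assoc, comm_sgn, ← mul_assoc, comm_r, mul_assoc]

theorem xw_ok : ∀ i < 8, ok8 (xw i) = true := by decide +kernel

theorem basis : Basis W0 bx := by
  refine ⟨W0_sq, fun i => W0_evw (xw_ok i i.2), fun i => ?_, fun i => ?_, fun i j h1 h2 => ?_⟩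
  · have h := Q_eq ((allN_iff _ _).1 sq_check i i.2)
    rw [evw_app, evw_nil] at h
    exact h
  · have h := Q_eq ((allN_iff _ _).1 swap_check i i.2)
    rw [evw_app, evw_app, evw_app, evw77] at h
    exact h
  · have h := (allN_iff _ _).1 ((allN_iff _ _).1 comm_check i i.2) j j.2
    rw [Bool.or_eq_true, Bool.or_eq_true, Nat.beq_eq, Nat.beq_eq] at h
    rcases h with (h | h) | h
    · exact absurd h h1
    · exact absurd h h2
    · have h3 := Q_eq h
      rw [evw_app, evw_app] at h3
      exact h3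

theorem evw_bw (n : ℕ) (i : Fin 8) : evw Q (bw n i) = pw (bx i) (n.testBit i) := by
  unfold bw bx
  cases n.testBit i <;> rfl

/-- the word of the code -/
theorem evw_wcode (n : ℕ) : evw Q (wcode n) = ι W0 bx n := by
  have e0 : evw Q (bw n 0) = pw (bx 0) (n.testBit 0) := evw_bw n 0
  have e1 : evw Q (bw n 1) = pw (bx 1) (n.testBit 1) := evw_bw n 1
  have e2 : evw Q (bw n 2) = pw (bx 2) (n.testBit 2) := evw_bw n 2
  have e3 : evw Q (bw n 3) = pw (bx 3) (n.testBit 3) := evw_bw n 3
  have e4 : evw Q (bw n 4) = pw (bx 4) (n.testBit 4) := evw_bw n 4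
  have e5 : evw Q (bw n 5) = pw (bx 5) (n.testBit 5) := evw_bw n 5
  have e6 : evw Q (bw n 6) = pw (bx 6) (n.testBit 6) := evw_bw n 6
  have e7 : evw Q (bw n 7) = pw (bx 7) (n.testBit 7) := evw_bw n 7
  have e8 : evw Q (Bool.rec [] [7, 7] (n.testBit 8) : List ℕ) = pw W0 (n.testBit 8) := by
    cases n.testBit 8
    · rfl
    · exact evw77
  unfold wcode ι lo hi
  rw [evw_app, evw_app, evw_app, evw_app, evw_app, evw_app, evw_app, evw_app, e0, e1, e2, e3, e4,
    e5, e6, e7, e8]
  simp only [mul_assoc]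

theorem W0_mem_RS : W0 ∈ RS := mem_RS.2 ⟨0, by norm_num, true, by rw [show r Q 0 = 1 from Bas.r_zero]; exact (one_mul _).symm⟩

theorem Q_mem_RS {i : ℕ} (hi : i < 8) : Q i ∈ RS := by
  refine mem_RS.2 ⟨2 ^ i, ?_, false, ?_⟩
  · exact Nat.pow_lt_pow_right (by norm_num) hi
  · rw [Bas.r_pow hi]
    exact (mul_one _).symm

theorem evw_mem_RS {l : List ℕ} (h : ok8 l = true) : evw Q l ∈ RS := by
  induction l with
  | nil => exact RS.one_mem
  | cons j l ih =>
    have h1 : ok8 (j :: l) = (Nat.blt j 8 && ok8 l) := rfl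
    rw [h1, Bool.and_eq_true] at h
    rw [evw_cons]
    exact RS.mul_mem (Q_mem_RS (by simpa using h.1)) (ih h.2)

theorem ι_mem (n : ℕ) : ι W0 bx n ∈ RS := by
  have hx : ∀ i : Fin 8, bx i ∈ RS := fun i => evw_mem_RS (xw_ok i i.2)
  have hp : ∀ (y : Cfsg.Spor.HN) (_ : y ∈ RS) (b : Bool), pw y b ∈ RS := by
    intro y hy b
    cases b
    · exact Subgroup.one_mem _
    · exact hy
  unfold ι lo hi
  exact Subgroup.mul_mem _ (hp _ W0_mem_RS _) (Subgroup.mul_mem _
    (Subgroup.mul_mem _ (Subgroup.mul_mem _ (hp _ (hx _) _) (hp _ (hx _) _))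
      (Subgroup.mul_mem _ (hp _ (hx _) _) (hp _ (hx _) _)))
    (Subgroup.mul_mem _ (Subgroup.mul_mem _ (hp _ (hx _) _) (hp _ (hx _) _))
      (Subgroup.mul_mem _ (hp _ (hx _) _) (hp _ (hx _) _))))

theorem ι_mod (z : Cfsg.Spor.HN) (x : Fin 8 → Cfsg.Spor.HN) (n : ℕ) : ι z x (n % 512) = ι z x n := by
  apply ι_congr
  intro i hi
  rw [show (512 : ℕ) = 2 ^ 9 by norm_num, Nat.testBit_mod_two_pow]
  simp [hi]

/-- codes of the generators -/
def qcl : List ℕ := [1, 2, 5, 66, 9, 129, 32, 17]

theorem qc_check : allN 8 (fun i => eqQ [i] (wcode (qcl.getD i 0))) = true := by decide +kernel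

theorem Q_code {i : ℕ} (hi : i < 8) : Q i = ι W0 bx (qcl.getD i 0) := by
  have h := Q_eq ((allN_iff _ _).1 qc_check i hi)
  rw [evw_cons, evw_nil, mul_one, evw_wcode] at h
  exact h

theorem exists_code' {l : List ℕ} (h : ok8 l = true) : ∃ n, evw Q l = ι W0 bx n := by
  induction l with
  | nil => exact ⟨0, ι_zero.symm⟩
  | cons j l ih =>
    have h1 : ok8 (j :: l) = (Nat.blt j 8 && ok8 l) := rfl
    rw [h1, Bool.and_eq_true] at h
    obtain ⟨n, hn⟩ := ih h.2
    have hj : j < 8 := by simpa using h.1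
    exact ⟨nmul (qcl.getD j 0) n, by rw [evw_cons, hn, Q_code hj, ι_nmul basis]⟩

/-- the letters of a mask -/
def ltn (m n : ℕ) : List ℕ := Nat.rec [] (fun i acc => acc ++ (bif m.testBit i then [i] else [])) n

theorem evw_ltn (m n : ℕ) : evw Q (ltn m n) = rr Q m n := by
  induction n with
  | zero => rfl
  | succ n ih =>
    have h : ltn m (n + 1) = ltn m n ++ (bif m.testBit n then [n] else []) := rfl
    rw [h, evw_app, ih, rr_succ]
    cases m.testBit n
    · rfl
    · rw [cond_true, evw_cons, evw_nil, mul_one, if_pos rfl]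

theorem ok8_app (l l' : List ℕ) : ok8 (l ++ l') = (ok8 l && ok8 l') := by
  induction l with
  | nil => rfl
  | cons j l ih =>
    have h : ok8 (j :: l ++ l') = (Nat.blt j 8 && ok8 (l ++ l')) := rfl
    have h1 : ok8 (j :: l) = (Nat.blt j 8 && ok8 l) := rfl
    rw [h, ih, h1, Bool.and_assoc]

theorem ok8_ltn (m : ℕ) : ∀ n ≤ 8, ok8 (ltn m n) = true := by
  intro n
  induction n with
  | zero => intro _; rfl
  | succ n ih =>
    intro hn
    have h : ltn m (n + 1) = ltn m n ++ (bif m.testBit n then [n] else []) := rfl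
    rw [h, ok8_app, ih (by omega), Bool.true_and]
    cases m.testBit n
    · rfl
    · have : ok8 [n] = (Nat.blt n 8 && true) := rfl
      rw [cond_true, this, Bool.and_true]
      have h8 : n < 8 := by omega
      simpa using h8

/-- every element of `R` has a code -/
theorem exists_code {q : Cfsg.Spor.HN} (hq : q ∈ RS) : ∃ n < 512, q = ι W0 bx n := by
  have key : ∃ n, q = ι W0 bx n := by
    obtain ⟨m, hm, b, rfl⟩ := mem_RS.1 hq
    have h1 : r Q m * sgn0 b = evw Q (ltn m 8 ++ (bif b then [7, 7] else [])) := by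
      rw [evw_app, evw_ltn]
      cases b
      · rfl
      · rw [cond_true, evw77]; rfl
    rw [h1]
    apply exists_code'
    rw [ok8_app, ok8_ltn m 8 le_rfl]
    cases b <;> rfl
  obtain ⟨n, rfl⟩ := key
  exact ⟨n % 512, Nat.mod_lt _ (by norm_num), (ι_mod _ _ n).symm⟩

/-- the code is unique -/
theorem ι_inj {m n : ℕ} (hm : m < 512) (hn : n < 512) (hmn : ι W0 bx m = ι W0 bx n) : m = n := by
  have hfin : Finite RS := Nat.finite_of_card_ne_zero (by rw [card_RS]; norm_num)
  let F : Fin 512 → RS := fun i => ⟨ι W0 bx i, ι_mem i⟩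
  have hs : Function.Surjective F := by
    rintro ⟨q, hq⟩
    obtain ⟨n, hn, rfl⟩ := exists_code hq
    exact ⟨⟨n, hn⟩, rfl⟩
  have hb : Function.Bijective F := by
    rw [Function.Surjective.bijective_of_nat_card_le hs (by rw [card_RS, Nat.card_fin]) |> iff_true_intro]
    trivial
  have h1 := hb.1 (a₁ := ⟨m, hm⟩) (a₂ := ⟨n, hn⟩) (Subtype.ext hmn)
  exact congrArg Fin.val h1

end Cfsg.Agent.H653.HNE
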