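import Cfsg.Agent.H653.HNE.Tables

/-!
# Orbits in a coset of `O₂(C(W0))` in the Harada-Norton group (helper653)
-/

set_option autoImplicit false
set_option maxRecDepth 100000

namespace Cfsg.Agent.H653.HNE

open Cfsg.Agent.HN.XWords Cfsg.Agent.HN.XStruct Cfsg.Agent.KFacts.HN
open Cfsg.Agent.ThType.CSideModel (pw Basis ι lo hi par4 nmul img ι_nmul ι_zero ι_z ι_gen)
open Cfsg.Agent.ThType.CSideWords (ninv ι_ninv ι_congr)

/-- conjugation by the element of `Q` with code `m` -/
def stepQ (L : List ℕ) (m n : ℕ) : ℕ := nmul (nmul m n) (ninv (app L m))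

/-- conjugation by an element with table `t` and `c y c⁻¹ = ι k y` -/
def stepC (t : List ℕ) (k n : ℕ) : ℕ := nmul (app t n) k

/-- one step -/
def step (L : List ℕ) (gs : List (List ℕ × ℕ)) (a n : ℕ) : ℕ :=
  bif Nat.blt a 512 then stepQ L a n else
    match gs[a - 512]? with
    | some g => stepC g.1 g.2 n
    | none => n

/-- the entry of the table -/
def ent (T n : ℕ) : ℕ := Nat.land (Nat.shiftRight T (Nat.mul 32 n)) 4294967295
def epar (e : ℕ) : ℕ := Nat.land e 511
def egen (e : ℕ) : ℕ := Nat.land (Nat.shiftRight e 9) 1023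
def ernk (e : ℕ) : ℕ := Nat.shiftRight e 19

/-- the check of the table at `n` -/
def chk (L : List ℕ) (gs : List (List ℕ × ℕ)) (n0 T : ℕ) (good : ℕ → Bool) (n : ℕ) : Bool :=
  or (not (good n)) (or (Nat.beq n n0) (and (good (epar (ent T n)))
    (and (Nat.blt (ernk (ent T (epar (ent T n)))) (ernk (ent T n)))
      (Nat.beq (step L gs (egen (ent T n)) (epar (ent T n))) n))))

theorem epar_lt (e : ℕ) : epar e < 512 := by
  unfold epar
  exact lt_of_le_of_lt Nat.and_le_right (by norm_num)

theorem act_mem {c : Cfsg.Spor.HN} {L : List ℕ} (h : Act c L) : c ∈ PP := mem_PP.2 h.z_comm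

theorem ι_mem_PP (n : ℕ) : ι W0 bx n ∈ PP := act_mem (act_ι n)

/-- conjugation by `Q` -/
theorem conjQ {y : Cfsg.Spor.HN} {L : List ℕ} (A : Act y L) (m n : ℕ) :
    ι W0 bx m * (ι W0 bx n * y) * (ι W0 bx m)⁻¹ = ι W0 bx (stepQ L m n) * y := by
  unfold stepQ
  rw [ι_nmul basis, ι_nmul basis, ι_ninv basis, ← A.conj basis m]
  group

/-- conjugation by `c` -/
theorem conjC {y c : Cfsg.Spor.HN} {t : List ℕ} {k : ℕ} (A : Act c t) (hk : c * y * c⁻¹ = ι W0 bx k * y)
    (n : ℕ) : c * (ι W0 bx n * y) * c⁻¹ = ι W0 bx (stepC t k n) * y := by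
  unfold stepC
  rw [ι_nmul basis, ← A.conj basis n, mul_assoc _ _ y, ← hk]
  group

/-- **Soundness of the table**. -/
theorem orbit {y : Cfsg.Spor.HN} {L : List ℕ} (A : Act y L) (gs : List (List ℕ × ℕ))
    (hgs : ∀ g ∈ gs, ∃ c : Cfsg.Spor.HN, Act c g.1 ∧ c * y * c⁻¹ = ι W0 bx g.2 * y)
    {n0 T : ℕ} {good : ℕ → Bool} (hc : allN 512 (chk L gs n0 T good) = true) {n : ℕ} (hn : n < 512)
    (hg : good n = true) : ∃ c ∈ PP, c * (ι W0 bx n0 * y) * c⁻¹ = ι W0 bx n * y := by
  rw [allN_iff] at hc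
  have key : ∀ r : ℕ, ∀ n < 512, good n = true → ernk (ent T n) ≤ r →
      ∃ c ∈ PP, c * (ι W0 bx n0 * y) * c⁻¹ = ι W0 bx n * y := by
    intro r
    induction r with
    | zero =>
      intro n hn hg hr
      have h1 := hc n hn
      unfold chk at h1
      rw [hg, Bool.not_true, Bool.false_or, Bool.or_eq_true] at h1
      rcases h1 with h1 | h1
      · rw [Nat.beq_eq] at h1
        subst h1
        exact ⟨1, Subgroup.one_mem _, by group⟩
      · rw [Bool.and_eq_true, Bool.and_eq_true] at h1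
        have h2 : ernk (ent T (epar (ent T n))) < ernk (ent T n) := by simpa using h1.2.1
        omega
    | succ r ih =>
      intro n hn hg hr
      have h1 := hc n hn
      unfold chk at h1
      rw [hg, Bool.not_true, Bool.false_or, Bool.or_eq_true] at h1
      rcases h1 with h1 | h1
      · rw [Nat.beq_eq] at h1
        subst h1
        exact ⟨1, Subgroup.one_mem _, by group⟩
      · rw [Bool.and_eq_true, Bool.and_eq_true, Nat.beq_eq] at h1
        have h2 : ernk (ent T (epar (ent T n))) < ernk (ent T n) := by simpa using h1.2.1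
        obtain ⟨c, hcC, hc1⟩ := ih _ (epar_lt _) h1.1 (by omega)
        have h3 := h1.2.2
        unfold step at h3
        cases hb : Nat.blt (egen (ent T n)) 512
        · rw [hb, cond_false] at h3
          rcases hm : gs[egen (ent T n) - 512]? with _ | g
          · rw [hm] at h3
            exact ⟨c, hcC, by rw [hc1]; exact congrArg (fun k => ι W0 bx k * y) h3⟩
          · rw [hm] at h3
            obtain ⟨d, hd, hd2⟩ := hgs g (List.mem_of_getElem? hm)
            refine ⟨d * c, Subgroup.mul_mem _ (act_mem hd) hcC, ?_⟩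
            have h4 := conjC hd hd2 (epar (ent T n))
            have h3' : stepC g.1 g.2 (epar (ent T n)) = n := h3
            rw [h3', ← hc1] at h4
            rw [← h4]
            group
        · rw [hb, cond_true] at h3
          refine ⟨ι W0 bx (egen (ent T n)) * c, Subgroup.mul_mem _ (ι_mem_PP _) hcC, ?_⟩
          have h4 := conjQ A (egen (ent T n)) (epar (ent T n))
          rw [h3, ← hc1] at h4
          rw [← h4]
          group
  exact key _ n hn hg le_rfl

/-- squares in a coset -/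
theorem sq_coset {y : Cfsg.Spor.HN} {L : List ℕ} (A : Act y L) {p : ℕ} (hp : y ^ 2 = ι W0 bx p) (n : ℕ) :
    (ι W0 bx n * y) ^ 2 = ι W0 bx (nmul (nmul n (app L n)) p) := by
  have e : ∀ u : Cfsg.Spor.HN, u ^ 2 = u * u := pow_two
  rw [ι_nmul basis, ι_nmul basis, ← A.conj basis n, ← hp, e (_ * y)]
  group

/-- fourth powers in a coset -/
theorem four_coset {y : Cfsg.Spor.HN} {L : List ℕ} (A : Act y L) {p : ℕ} (hp : y ^ 4 = ι W0 bx p) (n : ℕ) :
    (ι W0 bx n * y) ^ 4 = ι W0 bx
      (nmul (nmul (nmul n (app L n)) (app L (app L (nmul n (app L n))))) p) := by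
  have e : ∀ u : Cfsg.Spor.HN, u ^ 4 = u * u * (u * u) := fun u => by rw [← pow_two, ← pow_two, ← pow_mul]
  rw [ι_nmul basis, ι_nmul basis, ← A.conj basis (app L _), ← A.conj basis (nmul _ _), ι_nmul basis,
    ← A.conj basis n, ← hp, e (_ * y)]
  group

/-- the code of the square of `ι n * y`, `ι p = y ^ 2` -/
def s2 (L : List ℕ) (p n : ℕ) : ℕ := nmul (nmul n (app L n)) p

/-- the code of the fourth power of `ι n * y`, `ι p = y ^ 4` -/
def s4 (L : List ℕ) (p n : ℕ) : ℕ := nmul (nmul (nmul n (app L n)) (app L (app L (nmul n (app L n))))) p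

end Cfsg.Agent.H653.HNE
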