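import Cfsg.Agent.H653.HNE.Rel

/-!
# The three orbits, Harada-Norton group (helper653)
-/

set_option autoImplicit false
set_option maxRecDepth 100000

namespace Cfsg.Agent.H653.HNE

open Cfsg.Agent.HN.XWords Cfsg.Agent.HN.XStruct Cfsg.Agent.KFacts.HN
open Cfsg.Agent.ThType.CSideModel (pw Basis ι lo hi par4 nmul img ι_nmul ι_zero ι_z ι_gen)
open Cfsg.Agent.ThType.CSideWords (ninv ι_ninv ι_congr)

/-- the element of class 4A -/
def R4A : Cfsg.Spor.HN := ι W0 bx 17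

/-- the element of class 4C -/
def R4C : Cfsg.Spor.HN := wv yA

/-- the element of class 8B -/
def R8B : Cfsg.Spor.HN := ι W0 bx 128 * wv yB

theorem actI : Act (wv yI) LI' := act_congr tabI (act_wv _)
theorem actA : Act (wv yA) LA := act_congr tabA (act_wv _)
theorem actB : Act (wv yB) LB := act_congr tabB (act_wv _)
theorem actS : Act (wv yS) LS := act_congr tabS (act_wv _)
theorem actC : Act (wv yC) LC := act_congr tabC (act_wv _)

theorem wv_yI : wv yI = 1 := rfl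

theorem gensI : ∀ g ∈ gI, ∃ c : Cfsg.Spor.HN, Act c g.1 ∧ c * wv yI * c⁻¹ = ι W0 bx g.2 * wv yI := by
  intro g hg
  have h1 : ∀ c : Cfsg.Spor.HN, c * wv yI * c⁻¹ = ι W0 bx 0 * wv yI := by
    intro c
    rw [wv_yI, ι_zero]
    group
  rcases List.mem_cons.1 hg with rfl | hg
  · exact ⟨wv [0], act_congr (by decide +kernel) (act_wv _), h1 _⟩
  · rcases List.mem_cons.1 hg with rfl | hg
    · exact ⟨wv [1, 2], act_congr (by decide +kernel) (act_wv _), h1 _⟩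
    · exact absurd hg (List.not_mem_nil)

theorem gensA : ∀ g ∈ gA, ∃ c : Cfsg.Spor.HN, Act c g.1 ∧ c * wv yA * c⁻¹ = ι W0 bx g.2 * wv yA := by
  intro g hg
  rcases List.mem_cons.1 hg with rfl | hg
  · exact ⟨wv [2, 0], act_congr (by decide +kernel) (act_wv _), genA⟩
  · exact absurd hg (List.not_mem_nil)

theorem genB0 : wv [1] * wv yB * (wv [1])⁻¹ = ι W0 bx 0 * wv yB := by
  have h : wv yB = wv [1] * wv [1] := by rw [← wv_app]; rfl
  rw [h, ι_zero]
  group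

/-- the second generator of `B` -/
def dB : List ℕ := [0, 0, 2, 1, 2, 2, 0, 2]

theorem genB1 : wv dB * wv yB * (wv dB)⁻¹ = ι W0 bx 97 * wv yB ∨
    wv dB * wv yB * (wv dB)⁻¹ = ι W0 bx 353 * wv yB := by
  have h := wv_uniq (v := dB ++ yB) (w := [103] ++ (yB ++ dB)) (by decide +kernel)
  have h42 : wv [103] = ι W0 bx 97 := mul_one _
  rw [wv_app, wv_app, wv_app, h42] at h
  rcases h with h | h
  · left
    rw [mul_inv_eq_iff_eq_mul, h, mul_assoc]
  · right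
    have h3 : ι W0 bx 353 = W0 * ι W0 bx 97 := by
      have h4 := ι_nmul basis 256 97
      rw [ι_z] at h4
      exact h4
    rw [mul_inv_eq_iff_eq_mul, h, h3, mul_assoc, mul_assoc]

theorem gensB : (∀ g ∈ gB, ∃ c : Cfsg.Spor.HN, Act c g.1 ∧ c * wv yB * c⁻¹ = ι W0 bx g.2 * wv yB) ∨
    (∀ g ∈ gB2, ∃ c : Cfsg.Spor.HN, Act c g.1 ∧ c * wv yB * c⁻¹ = ι W0 bx g.2 * wv yB) := by
  rcases genB1 with h | h
  · left
    intro g hg
    rcases List.mem_cons.1 hg with rfl | hg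
    · exact ⟨wv [1], act_congr (by decide +kernel) (act_wv _), genB0⟩
    · rcases List.mem_cons.1 hg with rfl | hg
      · exact ⟨wv dB, act_congr (by decide +kernel) (act_wv _), h⟩
      · exact absurd hg (List.not_mem_nil)
  · right
    intro g hg
    rcases List.mem_cons.1 hg with rfl | hg
    · exact ⟨wv [1], act_congr (by decide +kernel) (act_wv _), genB0⟩
    · rcases List.mem_cons.1 hg with rfl | hg
      · exact ⟨wv dB, act_congr (by decide +kernel) (act_wv _), h⟩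
      · exact absurd hg (List.not_mem_nil)

theorem orbit_I {n : ℕ} (hn : n < 512) (hg : goodI n = true) : ∃ c ∈ PP, c * R4A * c⁻¹ = ι W0 bx n := by
  obtain ⟨c, hc, h⟩ := orbit actI gI gensI orbI hn hg
  rw [wv_yI, mul_one, mul_one] at h
  exact ⟨c, hc, h⟩

theorem orbit_A {n : ℕ} (hn : n < 512) (hg : goodA n = true) :
    ∃ c ∈ PP, c * R4C * c⁻¹ = ι W0 bx n * wv yA := by
  obtain ⟨c, hc, h⟩ := orbit actA gA gensA orbA hn hg
  rw [ι_zero, one_mul] at h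
  exact ⟨c, hc, h⟩

theorem orbit_B {n : ℕ} (hn : n < 512) (hg : goodB n = true) :
    ∃ c ∈ PP, c * R8B * c⁻¹ = ι W0 bx n * wv yB := by
  rcases gensB with hgs | hgs
  · exact orbit actB gB hgs orbB hn hg
  · exact orbit actB gB2 hgs orbB2 hn hg

theorem blt_of {p : ℕ → ℕ} (hb : allN 512 (fun n => Nat.blt (p n) 512) = true) {n : ℕ} (hn : n < 512) :
    p n < 512 := by
  have h1 := (allN_iff _ _).1 hb n hn
  simpa using h1

theorem ι_eq_z {n : ℕ} (hn : n < 512) (e : ι W0 bx n = W0) : n = 256 :=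
  ι_inj hn (by norm_num) (e.trans ι_z.symm)

theorem ι_sq (n : ℕ) : ι W0 bx n ^ 2 = ι W0 bx (sq n) := by
  unfold sq
  rw [pow_two, ι_nmul basis]

theorem sq_lt (m : ℕ) : sq m < 512 := by
  unfold sq nmul
  have h6 : Nat.xor m m = 0 := Nat.xor_self _
  rw [h6]
  have h7 : par4 (Nat.land (Nat.shiftRight m 4) m) ≤ 1 := Nat.and_le_right
  have h8 : ∀ v : ℕ, v ≤ 1 → Nat.xor 0 (Nat.shiftLeft v 8) < 512 := by
    intro v hv
    interval_cases v <;> decide
  exact h8 _ h7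

theorem not_of {p : ℕ → ℕ} {k n : ℕ} (hb : allN 512 (fun n => not (Nat.beq (p n) k)) = true) (hn : n < 512) :
    p n ≠ k := by
  have h1 := (allN_iff _ _).1 hb n hn
  intro h
  rw [h, Nat.beq_refl] at h1
  exact absurd h1 (by decide)

/-- square `W0` in the coset of `1` -/
theorem two_I {q : Cfsg.Spor.HN} (hq : q ∈ RS) (h : q ^ 2 = W0) : ∃ c ∈ PP, c * R4A * c⁻¹ = q := by
  obtain ⟨n, hn, rfl⟩ := exists_code hq
  apply orbit_I hn
  have h1 := sq_coset actI (p := 0) (by rw [wv_yI, one_pow, ι_zero]) n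
  rw [wv_yI, mul_one, h] at h1
  have h2 := ι_eq_z (blt_of boundI hn) h1.symm
  unfold goodI
  rw [Nat.beq_eq]
  exact h2

theorem two_A {q : Cfsg.Spor.HN} (hq : q ∈ RS) (h : (q * wv yA) ^ 2 = W0) : ∃ c ∈ PP, c * R4C * c⁻¹ = q * wv yA := by
  obtain ⟨n, hn, rfl⟩ := exists_code hq
  apply orbit_A hn
  rw [sq_coset actA wv_yA_sq n] at h
  have h2 := ι_eq_z (blt_of boundA hn) h
  unfold goodA
  rw [Nat.beq_eq]
  exact h2

theorem two_S {q : Cfsg.Spor.HN} (hq : q ∈ RS) : (q * wv yS) ^ 2 ≠ W0 := by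
  obtain ⟨n, hn, rfl⟩ := exists_code hq
  intro h
  rw [sq_coset actS wv_yS_sq n] at h
  exact not_of sqS hn (ι_eq_z (blt_of boundS hn) h)

theorem two_B {q : Cfsg.Spor.HN} (hq : q ∈ RS) : (q * wv yB) ^ 2 ≠ W0 := by
  obtain ⟨n, hn, rfl⟩ := exists_code hq
  intro h
  rw [sq_coset actB wv_yB_sq n] at h
  exact not_of sqB hn (ι_eq_z (blt_of boundB hn) h)

theorem pow4 (x : Cfsg.Spor.HN) : x ^ 4 = (x ^ 2) ^ 2 := by rw [← pow_mul]
theorem pow8 (x : Cfsg.Spor.HN) : x ^ 8 = ((x ^ 2) ^ 2) ^ 2 := by rw [← pow_mul, ← pow_mul]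
theorem pow8' (x : Cfsg.Spor.HN) : x ^ 8 = (x ^ 4) ^ 2 := by rw [← pow_mul]

theorem four_I {q : Cfsg.Spor.HN} (hq : q ∈ RS) : q ^ 4 ≠ W0 := by
  obtain ⟨n, hn, rfl⟩ := exists_code hq
  intro h
  rw [pow4, ι_sq, ι_sq] at h
  have h1 := ι_eq_z (sq_lt _) h
  have h2 := (allN_iff _ _).1 fourQ n hn
  rw [Nat.beq_eq] at h2
  rw [h2] at h1
  exact absurd h1 (by norm_num)

theorem four_A {q : Cfsg.Spor.HN} (hq : q ∈ RS) : (q * wv yA) ^ 4 ≠ W0 := by
  obtain ⟨n, hn, rfl⟩ := exists_code hq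
  intro h
  rw [pow4, sq_coset actA wv_yA_sq n, ι_sq] at h
  exact not_of fourA hn (ι_eq_z (sq_lt _) h)

theorem four_S {q : Cfsg.Spor.HN} (hq : q ∈ RS) : (q * wv yS) ^ 4 ≠ W0 := by
  obtain ⟨n, hn, rfl⟩ := exists_code hq
  intro h
  rw [pow4, sq_coset actS wv_yS_sq n, ι_sq] at h
  exact not_of fourS hn (ι_eq_z (sq_lt _) h)

theorem four_B {q : Cfsg.Spor.HN} (hq : q ∈ RS) (h : (q * wv yB) ^ 4 = W0) :
    ∃ c ∈ PP, c * R8B * c⁻¹ = q * wv yB := by
  obtain ⟨n, hn, rfl⟩ := exists_code hq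
  apply orbit_B hn
  rw [pow4, sq_coset actB wv_yB_sq n, ι_sq] at h
  have h2 := ι_eq_z (sq_lt _) h
  unfold goodB
  rw [Nat.beq_eq]
  exact h2

theorem four_C {q : Cfsg.Spor.HN} (hq : q ∈ RS) : (q * wv yC) ^ 4 ≠ W0 := by
  obtain ⟨n, hn, rfl⟩ := exists_code hq
  intro h
  rw [four_coset actC wv_yC_four n] at h
  exact not_of fourC hn (ι_eq_z (blt_of boundC hn) h)

theorem eight_C {q : Cfsg.Spor.HN} (hq : q ∈ RS) : (q * wv yC) ^ 8 ≠ W0 := by
  obtain ⟨n, hn, rfl⟩ := exists_code hq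
  intro h
  rw [pow8', four_coset actC wv_yC_four n, ι_sq] at h
  exact not_of eightC hn (ι_eq_z (sq_lt _) h)

/-- the eighth power of an element with square in `R` -/
theorem eight_of_sq {x : Cfsg.Spor.HN} (hx : x ^ 2 ∈ RS) : x ^ 8 ≠ W0 := by
  intro h
  have h1 : (x ^ 2) ^ 4 = W0 := by rw [← h, ← pow_mul]
  exact four_I hx h1

end Cfsg.Agent.H653.HNE
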