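import Cfsg.Agent.H653.HNE.Counts

/-!
# 2-central involutions commuting with an element of class 4A, Harada-Norton group (helper653)

`B2_4A` : 71 conjugates of `W0` commute with `R4A`.
-/

set_option autoImplicit false
set_option maxRecDepth 100000

namespace Cfsg.Agent.H653.HNE

open Subgroup
open Cfsg.Agent.HN.XWords Cfsg.Agent.HN.XStruct Cfsg.Agent.KFacts.HN
open Cfsg.Agent.HN.XMat (force force_eq)
open Cfsg.Agent.ThType.CSideModel (pw Basis ι lo hi par4 nmul img ι_nmul ι_zero ι_z ι_gen)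
open Cfsg.Agent.ThType.CSideWords (ninv ι_ninv ι_congr)

/-- the number of conjugates of `W0` commuting with `g` -/
noncomputable def B2 (g : Cfsg.Spor.HN) : ℕ := Nat.card {t : Cfsg.Spor.HN // IsConj W0 t ∧ Commute t g}

theorem commute_conj_iff {G : Type*} [Group G] {a b : G} (c : G) : Commute (c * a * c⁻¹) (c * b * c⁻¹) ↔ Commute a b := by
  constructor
  · intro h
    have h1 : c * a * c⁻¹ * (c * b * c⁻¹) = c * b * c⁻¹ * (c * a * c⁻¹) := h
    change a * b = b * a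
    calc a * b = c⁻¹ * (c * a * c⁻¹ * (c * b * c⁻¹)) * c := by group
      _ = c⁻¹ * (c * b * c⁻¹ * (c * a * c⁻¹)) * c := by rw [h1]
      _ = b * a := by group
  · intro h
    have h1 : a * b = b * a := h
    change c * a * c⁻¹ * (c * b * c⁻¹) = c * b * c⁻¹ * (c * a * c⁻¹)
    calc c * a * c⁻¹ * (c * b * c⁻¹) = c * (a * b) * c⁻¹ := by group
      _ = c * b * c⁻¹ * (c * a * c⁻¹) := by rw [h1]; group

theorem card_comm_conj {G : Type*} [Group G] (b a : G) (c : G) :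
    Nat.card {t : G // IsConj b t ∧ Commute t (c * a * c⁻¹)} = Nat.card {t : G // IsConj b t ∧ Commute t a} := by
  refine Nat.card_congr
    { toFun := fun t => ⟨c⁻¹ * t.1 * c, ?_, ?_⟩
      invFun := fun t => ⟨c * t.1 * c⁻¹, (isConj_conj_iff c).2 t.2.1, (commute_conj_iff c).2 t.2.2⟩
      left_inv := fun t => Subtype.ext (by group)
      right_inv := fun t => Subtype.ext (by group) }
  · have h := (isConj_conj_iff (a := b) (x := t.1) c⁻¹).2 t.2.1
    rwa [inv_inv] at h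
  · have h := (commute_conj_iff (a := t.1) (b := c * a * c⁻¹) c⁻¹).2 t.2.2
    have h1 : c⁻¹ * (c * a * c⁻¹) * c⁻¹⁻¹ = a := by group
    rw [h1, inv_inv] at h
    exact h

theorem B2_conj {a b : Cfsg.Spor.HN} (h : IsConj a b) : B2 a = B2 b := by
  obtain ⟨c, rfl⟩ := isConj_iff.1 h
  exact (card_comm_conj W0 a c).symm

/-- the 240 elements of order 4 of `O₂(C(W0))` -/
def SA : Set Cfsg.Spor.HN := {g | ∃ c ∈ PP, c * R4A * c⁻¹ = g}

theorem mem_SA {g : Cfsg.Spor.HN} : g ∈ SA ↔ ∃ m < 512, goodI m = true ∧ g = ι W0 bx m := by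
  constructor
  · rintro ⟨c, hc, rfl⟩
    have hq : c * R4A * c⁻¹ ∈ RS := conj_RS hc (ι_mem 17)
    obtain ⟨n, hn, h⟩ := exists_code hq
    refine ⟨n, hn, ?_, h⟩
    have h2 : ι W0 bx n ^ 2 = W0 := by
      rw [← h]
      exact conj_pow_W0 hc R4A_sq
    have h3 := sq_coset actI (p := 0) (by rw [wv_yI, one_pow, ι_zero]) n
    rw [wv_yI, mul_one, h2] at h3
    have h4 := ι_eq_z (blt_of boundI hn) h3.symm
    unfold goodI
    rw [Nat.beq_eq]
    exact h4
  · rintro ⟨m, hm, hg, rfl⟩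
    exact orbit_I hm hg

theorem SA_mem_PP {g : Cfsg.Spor.HN} (h : g ∈ SA) : g ∈ PP := by
  obtain ⟨m, _, _, rfl⟩ := mem_SA.1 h
  exact ι_mem_PP m

theorem SA_sq {g : Cfsg.Spor.HN} (h : g ∈ SA) : g ^ 2 = W0 := by
  obtain ⟨c, hc, rfl⟩ := h
  exact conj_pow_W0 hc R4A_sq

theorem SA_conj {c : Cfsg.Spor.HN} (hc : c ∈ PP) {g : Cfsg.Spor.HN} : c * g * c⁻¹ ∈ SA ↔ g ∈ SA := by
  constructor
  · rintro ⟨d, hd, h⟩
    refine ⟨c⁻¹ * d, PP.mul_mem (PP.inv_mem hc) hd, ?_⟩
    calc c⁻¹ * d * R4A * (c⁻¹ * d)⁻¹ = c⁻¹ * (d * R4A * d⁻¹) * c := by group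
      _ = g := by rw [h]; group
  · rintro ⟨d, hd, rfl⟩
    exact ⟨c * d, PP.mul_mem hc hd, by group⟩

/-- number of elements of `SA` commuting with `x` -/
noncomputable def HS (x : Cfsg.Spor.HN) : ℕ := Nat.card {g : Cfsg.Spor.HN // g ∈ SA ∧ Commute x g}

theorem HS_conj {c : Cfsg.Spor.HN} (hc : c ∈ PP) (x : Cfsg.Spor.HN) : HS (c * x * c⁻¹) = HS x := by
  refine Nat.card_congr
    { toFun := fun t => ⟨c⁻¹ * t.1 * c, ?_, ?_⟩
      invFun := fun t => ⟨c * t.1 * c⁻¹, (SA_conj hc).2 t.2.1, (commute_conj_iff c).2 t.2.2⟩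
      left_inv := fun t => Subtype.ext (by group)
      right_inv := fun t => Subtype.ext (by group) }
  · have h := (SA_conj (PP.inv_mem hc) (g := t.1)).2 t.2.1
    rwa [inv_inv] at h
  · have h := (commute_conj_iff (a := c * x * c⁻¹) (b := t.1) c⁻¹).2 t.2.2
    have h1 : c⁻¹ * (c * x * c⁻¹) * c⁻¹⁻¹ = x := by group
    rw [h1, inv_inv] at h
    exact h

/-- the check of commutation -/
def cmt (i n m : ℕ) : Bool := Nat.beq (Nat.mod (nmul (nmul n (app (LT i) m)) (ninv n)) 512) m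

theorem cmt_iff {i : ℕ} (hi : i < 5) (n : ℕ) {m : ℕ} (hm : m < 512) :
    Commute (ι W0 bx n * wv (rp i)) (ι W0 bx m) ↔ cmt i n m = true := by
  have h1 : (ι W0 bx n * wv (rp i)) * ι W0 bx m * (ι W0 bx n * wv (rp i))⁻¹ =
      ι W0 bx ((nmul (nmul n (app (LT i) m)) (ninv n)) % 512) := by
    rw [ι_mod, ι_nmul basis, ι_nmul basis, ι_ninv basis, ← (act_rp hi).conj basis m]
    group
  unfold cmt
  rw [Nat.beq_eq]
  change _ * _ = _ * _ ↔ _ % 512 = m
  constructor
  · intro h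
    rw [h, mul_inv_cancel_right] at h1
    exact (ι_inj hm (Nat.mod_lt _ (by norm_num)) h1).symm
  · intro h
    rw [h, mul_inv_eq_iff_eq_mul] at h1
    exact h1

theorem card_bool (p : ℕ → Bool) : Nat.card {m : Fin 512 // p m = true} = sumN 512 (fun m => b2n (p m)) := by
  rw [sumN_eq, Nat.card_eq_fintype_card, Fintype.card_subtype, Finset.card_filter]
  refine Fintype.sum_congr _ _ fun m => ?_
  unfold b2n
  cases p m <;> rfl

theorem HS_code {i : ℕ} (hi : i < 5) (n : ℕ) :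
    HS (ι W0 bx n * wv (rp i)) = sumN 512 (fun m => b2n (and (goodI m) (cmt i n m))) := by
  rw [← card_bool]
  symm
  refine Nat.card_congr (Equiv.ofBijective (fun m => ⟨ι W0 bx m.1, ?_, ?_⟩) ⟨?_, ?_⟩)
  · have h := m.2
    rw [Bool.and_eq_true] at h
    exact mem_SA.2 ⟨m.1, m.1.2, h.1, rfl⟩
  · have h := m.2
    rw [Bool.and_eq_true] at h
    exact (cmt_iff hi n m.1.2).2 h.2
  · intro a b hab
    have h1 : ι W0 bx a.1 = ι W0 bx b.1 := congrArg Subtype.val hab
    exact Subtype.ext (Fin.ext (ι_inj a.1.2 b.1.2 h1))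
  · rintro ⟨g, hg, hc⟩
    obtain ⟨m, hm, h1, rfl⟩ := mem_SA.1 hg
    refine ⟨⟨⟨m, hm⟩, ?_⟩, rfl⟩
    rw [Bool.and_eq_true]
    exact ⟨h1, (cmt_iff hi n hm).1 hc⟩

theorem c7 : sumN 5 (fun i => Nat.mul (cls i) (sumN 512 fun n =>
    bif g2B i n then sumN 512 (fun m => b2n (and (goodI m) (cmt i n m))) else 0)) = 17040 := by decide +kernel

instance finHN : Finite Cfsg.Spor.HN := Cfsg.Agent.KFacts.HN.YTrick.finiteHN

open scoped Classical in
/-- the number of commuting pairs -/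
theorem sum_pairs : (∑ x : PP, if IsConj W0 (x : Cfsg.Spor.HN) then HS x else 0) = 17040 := by
  have h1 := sum_PP (fun x => if IsConj W0 x then HS x else 0) (by
    intro c hc x
    simp only [HS_conj hc x, isConj_conj_iff c]) (by
    intro x hx
    by_cases h : IsConj W0 x
    · exact pow_eight_of_conj (k := 1) (l := 4) W0_sq' rfl (by rw [pow_one]; exact h)
    · exfalso
      apply hx
      simp only [h, if_false])
  have h2 : (∑ x : PP, if IsConj W0 (x : Cfsg.Spor.HN) then HS x else 0) =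
      ∑ i : Fin 5, cls i * ∑ n : Fin 512, (if IsConj W0 (ι W0 bx n * wv (rp i)) then
        HS (ι W0 bx n * wv (rp i)) else 0) := h1
  rw [h2, ← c7]
  have h7 := sumN_eq 5 (fun i => Nat.mul (cls i) (sumN 512 fun n =>
    bif g2B i n then sumN 512 (fun m => b2n (and (goodI m) (cmt i n m))) else 0))
  refine Eq.trans ?_ h7.symm
  refine Fintype.sum_congr _ _ fun i => ?_
  have h8 := sumN_eq 512 (fun n => bif g2B i n then sumN 512 (fun m => b2n (and (goodI m) (cmt i n m))) else 0)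
  refine congrArg (fun t => cls i * t) (Eq.trans ?_ h8.symm)
  refine Fintype.sum_congr _ _ fun n => ?_
  rw [HS_code i.2]
  have h3 := is2B i.2 n.2
  change _ ↔ g2B i n = true at h3
  cases h4 : g2B i n
  · rw [h4] at h3
    have h5 : ¬ IsConj W0 (ι W0 bx n * wv (rp i)) := fun h => absurd (h3.1 h) (by decide)
    simp only [h5, if_false, cond_false]
  · have h5 : IsConj W0 (ι W0 bx n * wv (rp i)) := h3.2 h4
    simp only [h5, if_true, cond_true]

/-- **class 4A** -/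
theorem B2_4A : B2 R4A = 71 := by
  classical
  have hf : ∀ g : SA, Nat.card {x : PP // IsConj W0 (x : Cfsg.Spor.HN) ∧ Commute (x : Cfsg.Spor.HN) g} = B2 R4A := by
    rintro ⟨g, hg⟩
    have h1 : IsConj R4A g := by
      obtain ⟨c, -, hc⟩ := hg
      exact isConj_iff.2 ⟨c, hc⟩
    rw [B2_conj h1]
    refine Nat.card_congr
      { toFun := fun x => ⟨x.1, x.2⟩
        invFun := fun t => ⟨⟨t.1, mem_PP.2 ?_⟩, t.2⟩
        left_inv := fun _ => rfl
        right_inv := fun _ => rfl }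
    have h := (t.2.2.pow_right 2).eq
    rw [SA_sq hg] at h
    exact h
  have h1 : Nat.card {p : PP × SA // IsConj W0 (p.1 : Cfsg.Spor.HN) ∧ Commute (p.1 : Cfsg.Spor.HN) p.2} =
      240 * B2 R4A := by
    have e : {p : PP × SA // IsConj W0 (p.1 : Cfsg.Spor.HN) ∧ Commute (p.1 : Cfsg.Spor.HN) p.2} ≃
        Σ g : SA, {x : PP // IsConj W0 (x : Cfsg.Spor.HN) ∧ Commute (x : Cfsg.Spor.HN) g} :=
      { toFun := fun p => ⟨p.1.2, ⟨p.1.1, p.2⟩⟩
        invFun := fun p => ⟨(p.2.1, p.1), p.2.2⟩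
        left_inv := fun _ => rfl
        right_inv := fun _ => rfl }
    have hSA : Nat.card SA = 240 := by
      rw [← count240, ← Nat.card_eq_fintype_card]
      symm
      refine Nat.card_congr (Equiv.ofBijective (fun m => ⟨ι W0 bx m.1, mem_SA.2 ⟨m.1, m.1.2, m.2, rfl⟩⟩) ⟨?_, ?_⟩)
      · intro a b hab
        have h1 : ι W0 bx a.1 = ι W0 bx b.1 := congrArg Subtype.val hab
        exact Subtype.ext (Fin.ext (ι_inj a.1.2 b.1.2 h1))
      · rintro ⟨g, hg⟩
        obtain ⟨m, hm, h1, rfl⟩ := mem_SA.1 hg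
        exact ⟨⟨⟨m, hm⟩, h1⟩, rfl⟩
    have := Fintype.ofFinite SA
    rw [Nat.card_congr e, Nat.card_sigma, Fintype.sum_congr _ _ hf, Finset.sum_const, Finset.card_univ,
      ← Nat.card_eq_fintype_card, hSA, smul_eq_mul]
  have h2 : Nat.card {p : PP × SA // IsConj W0 (p.1 : Cfsg.Spor.HN) ∧ Commute (p.1 : Cfsg.Spor.HN) p.2} =
      ∑ x : PP, if IsConj W0 (x : Cfsg.Spor.HN) then HS x else 0 := by
    have e : {p : PP × SA // IsConj W0 (p.1 : Cfsg.Spor.HN) ∧ Commute (p.1 : Cfsg.Spor.HN) p.2} ≃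
        Σ x : PP, {g : SA // IsConj W0 (x : Cfsg.Spor.HN) ∧ Commute (x : Cfsg.Spor.HN) g} :=
      { toFun := fun p => ⟨p.1.1, ⟨p.1.2, p.2⟩⟩
        invFun := fun p => ⟨(p.1, p.2.1), p.2.2⟩
        left_inv := fun _ => rfl
        right_inv := fun _ => rfl }
    rw [Nat.card_congr e, Nat.card_sigma]
    refine Fintype.sum_congr _ _ fun x => ?_
    split_ifs with h
    · refine Nat.card_congr
        { toFun := fun g => ⟨g.1, g.1.2, g.2.2⟩
          invFun := fun g => ⟨⟨g.1, g.2.1⟩, h, g.2.2⟩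
          left_inv := fun _ => rfl
          right_inv := fun _ => rfl }
    · have : IsEmpty {g : SA // IsConj W0 (x : Cfsg.Spor.HN) ∧ Commute (x : Cfsg.Spor.HN) g} :=
        ⟨fun g => h g.2.1⟩
      exact Nat.card_of_isEmpty
  rw [h1, sum_pairs] at h2
  omega

end Cfsg.Agent.H653.HNE
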