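import Cfsg.Agent.H653.HNE.Certs
import Cfsg.Agent.HN.Central

/-!
# Relations between the representatives, Harada-Norton group (helper653)
-/

set_option autoImplicit false
set_option maxRecDepth 100000

namespace Cfsg.Agent.H653.HNE

open Cfsg.Agent.HN.XWords Cfsg.Agent.HN.XStruct Cfsg.Agent.KFacts.HN
open Cfsg.Agent.HN.P1408 (eqw)
open Cfsg.Agent.ThType.CSideModel (pw Basis ι lo hi par4 nmul img ι_nmul ι_zero ι_z ι_gen)
open Cfsg.Agent.ThType.CSideWords (ninv ι_ninv ι_congr)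
open Cfsg.Agent.Lib.PackMat Cfsg.Agent.Lib.PackMatGroup Cfsg.Agent.HN.RepData

/-- letters `0, 1, 2` -/
def okg (w : List ℕ) : Bool := List.rec true (fun g _ b => and (Nat.blt g 3) b) w

theorem wv_Γ {w : List ℕ} (h : okg w = true) : wv w = evw Γ w := by
  induction w with
  | nil => rfl
  | cons g w ih =>
    have h1 : okg (g :: w) = (Nat.blt g 3 && okg w) := rfl
    rw [h1, Bool.and_eq_true] at h
    rw [wv_cons, ih h.2, evw_cons]
    unfold lv
    rw [h.1, cond_true]

/-- word in the letters of the group for a word in the `Q i` -/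
def qws (l : List ℕ) : List ℕ := List.rec [] (fun j _ ih => qw j ++ ih) l

theorem V_qws (l : List ℕ) : V (qws l) = evw Q l := by
  induction l with
  | nil => rfl
  | cons j l ih =>
    have h : qws (j :: l) = qw j ++ qws l := rfl
    rw [h, V_append, ih, evw_cons]
    rfl

theorem W0_V : W0 = V w0w := rfl

theorem wv_yA_sq : wv yA ^ 2 = ι W0 bx 256 := by
  rw [ι_z, pow_two, wv_Γ (by decide)]
  exact yh6

theorem ι_code {n : ℕ} {l : List ℕ} (h : eqQ (wcode n) l = true) : ι W0 bx n = evw Q l := by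
  rw [← evw_wcode]
  exact Q_eq h

theorem wv_yB_sq : wv yB ^ 2 = ι W0 bx 264 := by
  rw [pow_two, wv_Γ (by decide), ι_code (n := 264) (l := [7, 7, 0, 4]) (by decide +kernel),
    show ([7, 7, 0, 4] : List ℕ) = [7, 7] ++ [0, 4] from rfl, evw_app, evw77, W0_V, ← V_qws, ← V_append, ← V_ew,
    ← V_append]
  exact V_eq (by decide +kernel)

theorem wv_yS_sq : wv yS ^ 2 = ι W0 bx 105 := by
  rw [pow_two, wv_Γ (by decide), ι_code (n := 105) (l := [0, 0, 4, 6, 1, 3]) (by decide +kernel), ← V_qws, ← V_ew,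
    ← V_append]
  exact V_eq (by decide +kernel)

theorem wv_yC_four : wv yC ^ 4 = ι W0 bx 264 := by
  rw [← wv_yB_sq]
  have h : wv yB = wv yC * wv yC := by rw [← wv_app]; rfl
  rw [h, pow_two]
  rw [show (4 : ℕ) = 2 + 2 from rfl, pow_add, pow_two]

/-! ### The sign of the generator of `A` -/

/-- the rows number `i` of two words of packed matrices differ -/
noncomputable def chkNe (C : Cfg) (i : ℕ) (w₁ w₂ : List ℕ) : Bool :=
  withC C fun _ p r m t nf GM FM LO HI HT => force (unitRow C 1 i) fun R =>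
    Bool.rec true false (Nat.beq (runK p r m t nf GM FM LO HI HT w₁ R)
      (runK p r m t nf GM FM LO HI HT w₂ R))

theorem ne_of_chkNe {C : Cfg} {i : ℕ} {w₁ w₂ : List ℕ} (h : chkNe C i w₁ w₂ = true) :
    run C w₁ (unitRow C 1 i) ≠ run C w₂ (unitRow C 1 i) := by
  intro he
  unfold chkNe withC at h
  simp only [force_eq] at h
  change Bool.rec true false (Nat.beq (run C w₁ (unitRow C 1 i)) (run C w₂ (unitRow C 1 i))) = true at h
  rw [he, Nat.beq_refl] at h
  exact absurd h (by decide)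

theorem V_ne {w₁ w₂ : List ℕ} {i : ℕ} (hi : i < C.n) (hok1 : okW Cfsg.Agent.HN.Rep.L.length w₁ = true)
    (hok2 : okW Cfsg.Agent.HN.Rep.L.length w₂ = true)
    (hc : chkNe C i (cw Cfsg.Agent.HN.Rep.L w₁) (cw Cfsg.Agent.HN.Rep.L w₂) = true) : V w₁ ≠ V w₂ := by
  intro h
  have hne := ne_of_row (C := C) Cfsg.Agent.HN.Rep.good Cfsg.Agent.HN.Rep.codes hok1 hok2
    (unitRow_ok (c := 1) (i := i) (good_of_check Cfsg.Agent.HN.Rep.good) (by decide) hi).1 (ne_of_chkNe hc)
  apply hne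
  rw [← Cfsg.Agent.HN.Rep.rho_word, ← Cfsg.Agent.HN.Rep.rho_word]
  exact congrArg _ h

/-- the word of `c y_A`, `c = Γ 2 Γ 0` -/
def sA1 : List ℕ := ew ([2, 0] ++ yA)
/-- the word of `W0 (ι 36) y_A c` -/
def sA2 : List ℕ := w0w ++ (qws [0, 2, 6] ++ ew (yA ++ [2, 0]))

theorem sA_ne : V sA1 ≠ V sA2 :=
  V_ne (i := 0) (by decide) (by decide +kernel) (by decide +kernel) (by decide +kernel)

theorem genA : wv [2, 0] * wv yA * (wv [2, 0])⁻¹ = ι W0 bx 36 * wv yA := by
  rw [mul_inv_eq_iff_eq_mul]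
  have h := wv_uniq (v := [2, 0] ++ yA) (w := [42] ++ (yA ++ [2, 0])) (by decide +kernel)
  have h42 : wv [42] = ι W0 bx 36 := mul_one _
  rw [wv_app, wv_app, wv_app, h42] at h
  rcases h with h | h
  · rw [h, mul_assoc]
  · exfalso
    apply sA_ne
    have h1 : V sA1 = wv [2, 0] * wv yA := by
      rw [← wv_app, wv_Γ (by decide), ← V_ew]
      rfl
    have h2 : V sA2 = W0 * (ι W0 bx 36 * (wv yA * wv [2, 0])) := by
      rw [← wv_app, wv_Γ (w := yA ++ [2, 0]) (by decide), ← V_ew,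
        ι_code (n := 36) (l := [0, 2, 6]) (by decide +kernel), ← V_qws, W0_V, ← V_append, ← V_append]
      rfl
    rw [h1, h2, h]

end Cfsg.Agent.H653.HNE
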