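import Cfsg.Agent.H653.HNE.InvCls

/-!
# Sums of class functions of `C(W0)` over 2-elements, Harada-Norton group (helper653)
-/

set_option autoImplicit false
set_option maxRecDepth 100000

namespace Cfsg.Agent.H653.HNE

open Subgroup
open Cfsg.Agent.HN.XWords Cfsg.Agent.HN.XStruct Cfsg.Agent.KFacts.HN
open Cfsg.Agent.ThType.CSideModel (pw Basis ι lo hi par4 nmul img ι_nmul ι_zero ι_z ι_gen)
open Cfsg.Agent.ThType.CSideWords (ninv ι_ninv ι_congr)

noncomputable instance fintypePP : Fintype PP := Fintype.ofFinite _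

/-- the elements of type `i` -/
abbrev Fib (i : ℕ) : Type := {x : PP // IsConj (e (rp i)) (ρ x)}

/-- the class in the quotient -/
abbrev Cl (i : ℕ) : Type := {u : Lq // IsConj (e (rp i)) u}

noncomputable instance (i : ℕ) : Fintype (Fib i) := Fintype.ofFinite _
noncomputable instance (i : ℕ) : Fintype (Cl i) := Fintype.ofFinite _

theorem exists_lift {i : ℕ} (u : Cl i) : ∃ g : PP, ρ g * e (rp i) * (ρ g)⁻¹ = u.1 := by
  obtain ⟨c, hc⟩ := isConj_iff.1 u.2
  obtain ⟨g, rfl⟩ := ρ_surj c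
  exact ⟨g, hc⟩

/-- a lift -/
noncomputable def lft {i : ℕ} (u : Cl i) : PP := (exists_lift u).choose

theorem lft_spec {i : ℕ} (u : Cl i) : ρ (lft u) * e (rp i) * (ρ (lft u))⁻¹ = u.1 := (exists_lift u).choose_spec

theorem okg_rp {i : ℕ} (hi : i < 5) : okg (rp i) = true := by
  interval_cases i <;> decide

/-- the element `ι n * y` of `PP` -/
noncomputable def el (i n : ℕ) : PP := ⟨ι W0 bx n * wv (rp i), PP.mul_mem (ι_mem_PP n) (wv_mem (rp i))⟩

theorem ρ_el {i : ℕ} (hi : i < 5) (n : ℕ) : ρ (el i n) = e (rp i) := by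
  have h3 : el i n = ⟨ι W0 bx n, ι_mem_PP n⟩ * ⟨wv (rp i), wv_mem (rp i)⟩ := rfl
  rw [h3, map_mul, (mem_RS_iff (ι_mem_PP n)).1 (ι_mem n), one_mul, ρ_wv (okg_rp hi)]

/-- the parametrisation of the elements of type `i` -/
noncomputable def par {i : ℕ} (hi : i < 5) (p : Cl i × Fin 512) : Fib i :=
  ⟨lft p.1 * el i p.2 * (lft p.1)⁻¹, by
    rw [map_mul, map_mul, map_inv, ρ_el hi]
    rw [lft_spec]
    exact p.1.2⟩

theorem ρ_par {i : ℕ} (hi : i < 5) (p : Cl i × Fin 512) : ρ (par hi p).1 = p.1.1 := by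
  change ρ (lft p.1 * el i p.2 * (lft p.1)⁻¹) = _
  rw [map_mul, map_mul, map_inv, ρ_el hi, lft_spec]

theorem par_bij {i : ℕ} (hi : i < 5) : Function.Bijective (par hi) := by
  constructor
  · rintro ⟨u, m⟩ ⟨v, n⟩ h
    have h1 : u = v := by
      have h2 := congrArg (fun x : Fib i => ρ x.1) h
      change ρ (par hi (u, m)).1 = ρ (par hi (v, n)).1 at h2
      rw [ρ_par, ρ_par] at h2
      exact Subtype.ext h2
    subst h1
    have h2 : lft u * el i m * (lft u)⁻¹ = lft u * el i n * (lft u)⁻¹ := congrArg Subtype.val h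
    have h3 : el i m = el i n := mul_left_cancel (mul_right_cancel h2)
    have h4 : ι W0 bx m * wv (rp i) = ι W0 bx n * wv (rp i) := congrArg Subtype.val h3
    rw [Fin.ext (ι_inj m.2 n.2 (mul_right_cancel h4))]
  · rintro ⟨x, hx⟩
    set u : Cl i := ⟨ρ x, hx⟩ with hu
    have h1 : ρ ((lft u)⁻¹ * x * lft u * (⟨wv (rp i), wv_mem (rp i)⟩ : PP)⁻¹) = 1 := by
      have h2 := lft_spec u
      change _ = ρ x at h2
      rw [map_mul, map_mul, map_mul, map_inv, map_inv, ρ_wv (okg_rp hi), ← h2]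
      group
    have h2 : ((lft u)⁻¹ * x * lft u * (⟨wv (rp i), wv_mem (rp i)⟩ : PP)⁻¹ : PP).1 ∈ RS :=
      (mem_RS_iff (Subtype.prop _)).2 h1
    obtain ⟨n, hn, h3⟩ := exists_code h2
    refine ⟨(u, ⟨n, hn⟩), Subtype.ext ?_⟩
    change lft u * el i n * (lft u)⁻¹ = x
    have h4 : el i n = (lft u)⁻¹ * x * lft u := by
      apply Subtype.ext
      change ι W0 bx n * wv (rp i) = _
      rw [← h3]
      change (((lft u)⁻¹ * x * lft u : PP) : Cfsg.Spor.HN) * (wv (rp i))⁻¹ * wv (rp i) = _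
      rw [inv_mul_cancel_right]
    rw [h4]
    group

/-- **sum over a type** -/
theorem sum_fib {i : ℕ} (hi : i < 5) (f : Cfsg.Spor.HN → ℕ) (hf : ∀ c ∈ PP, ∀ x, f (c * x * c⁻¹) = f x) :
    ∑ x : Fib i, f x.1 = cls i * ∑ n : Fin 512, f (ι W0 bx n * wv (rp i)) := by
  rw [← (par_bij hi).sum_comp (fun x : Fib i => f x.1)]
  have h1 : ∀ p : Cl i × Fin 512, f ((par hi p).1 : PP) = f (ι W0 bx p.2 * wv (rp i)) := by
    intro p
    change f ((lft p.1 : Cfsg.Spor.HN) * (ι W0 bx p.2 * wv (rp i)) * (lft p.1 : Cfsg.Spor.HN)⁻¹) = _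
    exact hf _ (lft p.1).2 _
  rw [Fintype.sum_congr _ _ h1, Fintype.sum_prod_type]
  simp only
  rw [Finset.sum_const, Finset.card_univ, ← Nat.card_eq_fintype_card, card_cls hi, smul_eq_mul]

open scoped Classical in
/-- **sum over `PP`** of a class function supported on elements of order dividing eight -/
theorem sum_PP (f : Cfsg.Spor.HN → ℕ) (hf : ∀ c ∈ PP, ∀ x, f (c * x * c⁻¹) = f x)
    (h8 : ∀ x, f x ≠ 0 → x ^ 8 = 1) :
    ∑ x : PP, f x = ∑ i : Fin 5, cls i * ∑ n : Fin 512, f (ι W0 bx n * wv (rp i)) := by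
  have h1 : ∀ x : PP, f x = ∑ i : Fin 5, if IsConj (e (rp i)) (ρ x) then f x else 0 := by
    intro x
    by_cases hx : f x = 0
    · rw [hx]
      simp
    · have h2 : (ρ x) ^ 8 = 1 := by
        rw [← map_pow, ← map_one ρ]
        exact congrArg ρ (Subtype.ext (h8 _ hx))
      obtain ⟨c, j, hj, hc⟩ := to_rep h2
      have h3 : IsConj (e (rp j)) (ρ x) := (isConj_iff.2 ⟨c, hc⟩ : IsConj (ρ x) (e (rp j))).symm
      rw [Finset.sum_eq_single (⟨j, hj⟩ : Fin 5)]
      · rw [if_pos h3]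
      · intro i _ hij
        rw [if_neg]
        intro h4
        exact hij (Fin.ext (rp_inj i.2 hj (h4.trans h3.symm)))
      · intro h
        exact absurd (Finset.mem_univ _) h
  rw [Fintype.sum_congr _ _ h1, Finset.sum_comm]
  refine Fintype.sum_congr _ _ fun i => ?_
  rw [← sum_fib i.2 f hf, ← Finset.sum_filter]
  symm
  refine Finset.sum_bij' (fun x _ => x.1) (fun x hx => ⟨x, (Finset.mem_filter.1 hx).2⟩) ?_ ?_ ?_ ?_ ?_
  · intro x _
    exact Finset.mem_filter.2 ⟨Finset.mem_univ _, x.2⟩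
  · intro x _
    exact Finset.mem_univ _
  · intro x _
    rfl
  · intro x _
    rfl
  · intro x _
    rfl

/-- bounded sum -/
def sumN (n : ℕ) (f : ℕ → ℕ) : ℕ := Nat.rec 0 (fun i acc => Nat.add acc (f i)) n

theorem sumN_eq (n : ℕ) (f : ℕ → ℕ) : sumN n f = ∑ i : Fin n, f i := by
  rw [Fin.sum_univ_eq_sum_range]
  induction n with
  | zero => rfl
  | succ n ih =>
    have h : sumN (n + 1) f = sumN n f + f n := rfl
    rw [h, ih, Finset.sum_range_succ]

/-- one or zero -/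
def b2n (b : Bool) : ℕ := bif b then 1 else 0

open scoped Classical in
/-- **counting** -/
theorem count_PP (X : Cfsg.Spor.HN → Prop) (hX : ∀ c ∈ PP, ∀ x, X (c * x * c⁻¹) ↔ X x)
    (h8 : ∀ x, X x → x ^ 8 = 1) (good : ℕ → ℕ → Bool)
    (hg : ∀ i < 5, ∀ n < 512, X (ι W0 bx n * wv (rp i)) ↔ good i n = true) :
    Nat.card {x : PP // X x} = sumN 5 fun i => Nat.mul (cls i) (sumN 512 fun n => b2n (good i n)) := by
  have h1 := sum_PP (fun x => if X x then 1 else 0) (by
    intro c hc x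
    simp only [hX c hc x]) (by
    intro x hx
    by_contra h
    apply hx
    have h2 : ¬ X x := fun h3 => h (h8 x h3)
    simp only [h2, if_false])
  have h2 : Nat.card {x : PP // X x} = ∑ x : PP, if X x then 1 else 0 := by
    rw [Nat.card_eq_fintype_card, Fintype.card_subtype, Finset.card_filter]
  have h6 : (∑ x : PP, if X x then 1 else 0) =
      ∑ i : Fin 5, cls i * ∑ n : Fin 512, (if X (ι W0 bx n * wv (rp i)) then 1 else 0) := h1
  have h7 := sumN_eq 5 (fun i => Nat.mul (cls i) (sumN 512 fun n => b2n (good i n)))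
  refine (h2.trans h6).trans (Eq.trans ?_ h7.symm)
  refine Fintype.sum_congr _ _ fun i => ?_
  have h8 := sumN_eq 512 (fun n => b2n (good i n))
  refine congrArg (fun t => cls i * t) (Eq.trans ?_ h8.symm)
  refine Fintype.sum_congr _ _ fun n => ?_
  have h3 := hg i i.2 n n.2
  unfold b2n
  cases h4 : good i n
  · rw [h4] at h3
    have h5 : ¬ X (ι W0 bx n * wv (rp i)) := fun h => absurd (h3.1 h) (by decide)
    simp only [h5, if_false, cond_false]
  · have h5 : X (ι W0 bx n * wv (rp i)) := h3.2 h4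
    simp only [h5, if_true, cond_true]

end Cfsg.Agent.H653.HNE
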