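import Cfsg.Agent.H653.HNE.Model

/-!
# Action of `C(W0)` on `O₂(C(W0))` in the Harada-Norton group (helper653)

`tw w` is the table of images of the basis `bx` under the word `w` (letters `0 1 2` : `Γ`, `3 4 5` : inverses,
`n + 6` : the element with code `n`).
-/

set_option autoImplicit false
set_option maxRecDepth 100000

namespace Cfsg.Agent.H653.HNE

open Cfsg.Agent.HN.XWords Cfsg.Agent.HN.XStruct Cfsg.Agent.KFacts.HN
open Cfsg.Agent.HN.XMat (row gen force force_eq)
open Cfsg.Agent.ThType.CSideModel (pw Basis ι lo hi par4 nmul img ι_nmul ι_zero ι_z ι_gen)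
open Cfsg.Agent.ThType.CSideWords (ninv ι_ninv ι_congr)

abbrev app := Cfsg.Agent.ThType.CSideModel.app
abbrev Act := Cfsg.Agent.ThType.CSideModel.Acts W0 bx

theorem W0_mem : W0 ∈ PP := mem_PP.2 rfl

/-- the image of a generator under `(Γ g)⁻¹` -/
def imw (g i : ℕ) : List ℕ := ltn (row (gen g) i) 8 ++ (bif (ep g).testBit i then [7, 7] else [])

theorem imw_eq (g : ℕ) {i : ℕ} (hi : i < 8) : (Γ g)⁻¹ * Q i * Γ g = evw Q (imw g i) := by
  have h := act g hi
  unfold ActAt at h
  rw [mul_assoc, h, inv_mul_cancel_left]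
  unfold imw
  rw [evw_app, evw_ltn]
  congr 1
  cases (ep g).testBit i
  · rfl
  · exact evw77.symm

/-- the image of a word -/
def imwl (g : ℕ) (l : List ℕ) : List ℕ := List.rec [] (fun j _ ih => imw g j ++ ih) l

theorem imwl_eq (g : ℕ) {l : List ℕ} (h : ok8 l = true) : (Γ g)⁻¹ * evw Q l * Γ g = evw Q (imwl g l) := by
  induction l with
  | nil =>
    rw [evw_nil]
    change _ = (1 : Cfsg.Spor.HN)
    group
  | cons j l ih =>
    have h1 : ok8 (j :: l) = (Nat.blt j 8 && ok8 l) := rfl
    rw [h1, Bool.and_eq_true] at h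
    have h2 : imwl g (j :: l) = imw g j ++ imwl g l := rfl
    rw [h2, evw_app, ← imw_eq g (by simpa using h.1), ← ih h.2, evw_cons]
    group

/-- the tables of `(Γ g)⁻¹` -/
def LI (g : ℕ) : List ℕ :=
  match g with
  | 0 => [1, 450, 421, 170, 311, 260, 131, 128]
  | 1 => [1, 300, 67, 8, 56, 64, 296, 130]
  | _ => [4, 2, 5, 13, 351, 33, 402, 132]

/-- the tables of `Γ g` -/
def LG (g : ℕ) : List ℕ :=
  match g with
  | 0 => [1, 193, 288, 236, 85, 165, 323, 128]
  | 1 => [1, 37, 66, 8, 336, 328, 32, 165]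
  | _ => [5, 2, 1, 12, 451, 37, 473, 129]

theorem LI_check : allN 3 (fun g => allN 8 fun i => eqQ (imwl g (xw i)) (wcode (img (LI g) i))) = true := by
  decide +kernel

theorem LG_check : allN 3 (fun g => allN 8 fun i => Nat.beq (app (LI g) (img (LG g) i)) (Nat.shiftLeft 1 i)) = true := by
  decide +kernel

theorem act_inv {g : ℕ} (hg : g < 3) : Act (Γ g)⁻¹ (LI g) := by
  refine ⟨?_, fun i => ?_⟩
  · rw [inv_mul_eq_iff_eq_mul, ← mul_assoc, ← cwg, mul_inv_cancel_right]
  · have h := Q_eq ((allN_iff _ _).1 ((allN_iff _ _).1 LI_check g hg) i i.2)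
    rw [← imwl_eq g (xw_ok i i.2), evw_wcode] at h
    rw [inv_inv]
    exact h

theorem act_gen {g : ℕ} (hg : g < 3) : Act (Γ g) (LG g) := by
  have h := (act_inv hg).inv basis (L' := LG g) (fun i => by
    have h := (allN_iff _ _).1 ((allN_iff _ _).1 LG_check g hg) i i.2
    rw [Nat.beq_eq] at h
    rw [← Nat.one_shiftLeft]
    exact h)
  rwa [inv_inv] at h

/-- the table of a product -/
def tmul (L L' : List ℕ) : List ℕ :=
  [app L (img L' 0), app L (img L' 1), app L (img L' 2), app L (img L' 3), app L (img L' 4), app L (img L' 5),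
    app L (img L' 6), app L (img L' 7)]

theorem act_mul {c d : Cfsg.Spor.HN} {L L' : List ℕ} (hc : Act c L) (hd : Act d L') : Act (c * d) (tmul L L') := by
  refine ⟨?_, fun i => ?_⟩
  · rw [mul_assoc, hd.z_comm, ← mul_assoc, hc.z_comm, mul_assoc]
  · have h1 := hd.gen i
    have h2 := hc.conj basis (img L' i.1)
    have h3 : c * d * bx i * (c * d)⁻¹ = c * (d * bx i * d⁻¹) * c⁻¹ := by group
    rw [h3, h1, h2]
    have h4 : img (tmul L L') i.1 = app L (img L' i.1) := by
      obtain ⟨i, hi⟩ := i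
      interval_cases i <;> rfl
    rw [h4]

/-- the table of `ι n` -/
def tq (n : ℕ) : List ℕ :=
  let f := fun i => nmul (nmul n (Nat.shiftLeft 1 i)) (ninv n)
  [f 0, f 1, f 2, f 3, f 4, f 5, f 6, f 7]

theorem act_ι (n : ℕ) : Act (ι W0 bx n) (tq n) := by
  refine ⟨?_, fun i => ?_⟩
  · have h := ι_nmul basis n 256
    have h' := ι_nmul basis 256 n
    rw [ι_z] at h h'
    rw [← h, ← h']
    apply ι_congr
    intro i hi
    rcases Nat.lt_or_ge i 8 with h8 | h8
    · rw [Cfsg.Agent.ThType.CSideModel.nmul_testBit_lt _ _ _ h8, Cfsg.Agent.ThType.CSideModel.nmul_testBit_lt _ _ _ h8,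
        Bool.xor_comm]
    · obtain rfl : i = 8 := by omega
      rw [Cfsg.Agent.ThType.CSideModel.nmul_testBit_eight, Cfsg.Agent.ThType.CSideModel.nmul_testBit_eight]
      have e : ∀ j < 8, (256 : ℕ).testBit j = false := by decide
      have e8 : (256 : ℕ).testBit 8 = true := by decide
      simp only [e 0 (by norm_num), e 1 (by norm_num), e 2 (by norm_num), e 3 (by norm_num), e 4 (by norm_num),
        e 5 (by norm_num), e 6 (by norm_num), e 7 (by norm_num), e8]
      cases n.testBit 8 <;> simp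
  · have h1 : img (tq n) i.1 = nmul (nmul n (2 ^ i.1)) (ninv n) := by
      obtain ⟨i, hi⟩ := i
      interval_cases i <;> rfl
    rw [h1, ι_nmul basis, ι_nmul basis, ι_ninv basis, ι_gen]

/-- value of a letter -/
def lv (l : ℕ) : Cfsg.Spor.HN :=
  bif Nat.blt l 3 then Γ l else bif Nat.blt l 6 then (Γ (l - 3))⁻¹ else ι W0 bx (l - 6)

/-- table of a letter -/
def lt (l : ℕ) : List ℕ :=
  bif Nat.blt l 3 then LG l else bif Nat.blt l 6 then LI (l - 3) else tq (l - 6)

/-- value of a word -/
def wv (w : List ℕ) : Cfsg.Spor.HN := evw lv w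

theorem wv_nil : wv [] = 1 := rfl
theorem wv_cons (l : ℕ) (w : List ℕ) : wv (l :: w) = lv l * wv w := evw_cons _ _ _
theorem wv_app (v w : List ℕ) : wv (v ++ w) = wv v * wv w := evw_app _ _ _

/-- table of a word -/
def tw (w : List ℕ) : List ℕ := List.rec [1, 2, 4, 8, 16, 32, 64, 128] (fun l _ t => tmul (lt l) t) w

theorem act_lv (l : ℕ) : Act (lv l) (lt l) := by
  unfold lv lt
  cases h : Nat.blt l 3
  · cases h' : Nat.blt l 6
    · simp only [cond_false]
      exact act_ι _
    · simp only [cond_false, cond_true]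
      have h1 : l < 6 := by simpa using h'
      have h2 : ¬ l < 3 := by
        intro h3
        have : Nat.blt l 3 = true := by simpa using h3
        rw [h] at this
        exact absurd this (by decide)
      exact act_inv (by omega)
  · simp only [cond_true]
    exact act_gen (by simpa using h)

theorem act_one : Act 1 [1, 2, 4, 8, 16, 32, 64, 128] := by
  refine ⟨by group, fun i => ?_⟩
  have h1 : img [1, 2, 4, 8, 16, 32, 64, 128] i.1 = 2 ^ i.1 := by
    obtain ⟨i, hi⟩ := i
    interval_cases i <;> rfl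
  rw [h1, ι_gen]
  group

theorem act_wv (w : List ℕ) : Act (wv w) (tw w) := by
  induction w with
  | nil => exact act_one
  | cons l w ih =>
    rw [wv_cons]
    exact act_mul (act_lv l) ih

theorem app_id : allN 512 (fun n => Nat.beq (app [1, 2, 4, 8, 16, 32, 64, 128] n) n) = true := by decide +kernel

/-- an element with trivial action is `1` or `W0` -/
theorem triv {u : Cfsg.Spor.HN} (h : Act u [1, 2, 4, 8, 16, 32, 64, 128]) : u = 1 ∨ u = W0 := by
  apply cent_RS
  intro y hy
  obtain ⟨n, hn, rfl⟩ := exists_code hy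
  have h1 := h.conj basis n
  have h2 := (allN_iff _ _).1 app_id n hn
  rw [Nat.beq_eq] at h2
  change u * _ * u⁻¹ = ι W0 bx (app _ n) at h1
  rw [h2, mul_inv_eq_iff_eq_mul] at h1
  exact h1

/-- two elements with the same table -/
theorem act_uniq {u v : Cfsg.Spor.HN} {L : List ℕ} (hu : Act u L) (hv : Act v L) : u = v ∨ u = W0 * v := by
  have h1 : Act (v⁻¹ * u) [1, 2, 4, 8, 16, 32, 64, 128] := by
    refine ⟨?_, fun i => ?_⟩
    · have h2 := hv.z_comm
      have h3 : v⁻¹ * W0 = W0 * v⁻¹ := by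
        rw [inv_mul_eq_iff_eq_mul, ← mul_assoc, h2, mul_inv_cancel_right]
      rw [mul_assoc, hu.z_comm, ← mul_assoc, h3, mul_assoc]
    · have h2 := hu.gen i
      have h3 := hv.gen i
      have h4 : img [1, 2, 4, 8, 16, 32, 64, 128] i.1 = 2 ^ i.1 := by
        obtain ⟨i, hi⟩ := i
        interval_cases i <;> rfl
      rw [h4, ι_gen]
      calc v⁻¹ * u * bx i * (v⁻¹ * u)⁻¹ = v⁻¹ * (u * bx i * u⁻¹) * v := by group
        _ = v⁻¹ * (v * bx i * v⁻¹) * v := by rw [h2, h3]
        _ = bx i := by group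
  rcases triv h1 with h2 | h2
  · left
    rw [inv_mul_eq_one] at h2
    exact h2.symm
  · right
    rw [inv_mul_eq_iff_eq_mul] at h2
    rw [h2, hv.z_comm]

/-- equality of tables -/
def eqT (L L' : List ℕ) : Bool := allN 8 fun i => Nat.beq (img L i) (img L' i)

theorem act_congr {u : Cfsg.Spor.HN} {L L' : List ℕ} (h : eqT L L' = true) (hu : Act u L) : Act u L' := by
  refine ⟨hu.z_comm, fun i => ?_⟩
  have h1 := (allN_iff _ _).1 h i i.2
  rw [Nat.beq_eq] at h1
  rw [hu.gen i, h1]

/-- equality of words up to sign -/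
theorem wv_uniq {v w : List ℕ} (h : eqT (tw v) (tw w) = true) : wv v = wv w ∨ wv v = W0 * wv w :=
  act_uniq (act_congr h (act_wv v)) (act_wv w)

end Cfsg.Agent.H653.HNE
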